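import Cfsg.Agent.Lib.Cert.Mod
import Cfsg.Agent.Lib.PermCert.PL

set_option autoImplicit false
set_option maxRecDepth 100000

namespace Cfsg.Agent.Ct.G23

open Cfsg.Agent.PC

open Cfsg.Agent.Fi Cfsg.Agent.Ct
namespace L1
def t0x : TN := (TN.leaf (nat_lit 0x90ca83393d21b511a04661194463118045e117445b4068831407c83020bd01c20b9021338882d359c82c20acd2420a8da91144450113c44e113444c112c44a2064818205c8162054814204c8121114444110c4422024808201c8061100801))
def t1x : TN := (TN.leaf (nat_lit 0x70c046e70b046a82d142f20d5ab162c942b20cd22d1164ca91160ca7115cca51158ca31154ca11150c9f114cc9d1148c9b20a08262090822208081e207081a1124c911120c8f111cc8d1118c8b204080e203080a1104c851100c832010802))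
def t2x : TN := (TN.leaf (nat_lit 0x11be43111adc2d70b9a7547c083450a9a7347b083240a0459409845840904574088456408045540784544070453406845220a48272094823208481f207481b4040449403844840304474028446204480f203480b401044140084402014803))
def tt : TN := (TN.node (TN.node (TN.node (TN.node t0x (TN.leaf (nat_lit 0))) (TN.node (TN.leaf (nat_lit 0)) (TN.leaf (nat_lit 0)))) (TN.node (TN.node t2x (TN.leaf (nat_lit 0))) (TN.node (TN.leaf (nat_lit 0)) (TN.leaf (nat_lit 0))))) (TN.node (TN.node (TN.node t1x (TN.leaf (nat_lit 0))) (TN.node (TN.leaf (nat_lit 0)) (TN.leaf (nat_lit 0)))) (TN.node (TN.node (TN.leaf (nat_lit 0)) (TN.leaf (nat_lit 0))) (TN.node (TN.leaf (nat_lit 0)) (TN.leaf (nat_lit 0))))))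
noncomputable def T (j c : ℕ) : ℕ := getL tt (nat_lit 14) (nat_lit 63) j c
noncomputable def E (j c : ℕ) : ℕ := getL tt (nat_lit 14) (nat_lit 16383) j c
theorem T_eq (j c : ℕ) : T j c = E j c % 64 :=
  getL_mod (a := 6) (b := 14) _ _ (by norm_num) (by norm_num) (by norm_num) (by norm_num) j c
def rels : List (List ℕ) := [[nat_lit 1, nat_lit 1, nat_lit 1], [nat_lit 0, nat_lit 1, nat_lit 0, nat_lit 1, nat_lit 0, nat_lit 1, nat_lit 0, nat_lit 1, nat_lit 0, nat_lit 1, nat_lit 0, nat_lit 1], [nat_lit 1, nat_lit 0, nat_lit 2, nat_lit 0, nat_lit 1, nat_lit 0, nat_lit 2, nat_lit 0, nat_lit 1, nat_lit 0, nat_lit 2, nat_lit 0]]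
def inv (i : ℕ) : ℕ := Nat.land (Nat.shiftRight (nat_lit 216) (Nat.mul (nat_lit 2) i)) (nat_lit 3)
def X_t : TN := (TN.leaf (nat_lit 0))
noncomputable def X (i : ℕ) : ℕ := get9 X_t (nat_lit 1) (nat_lit 1) i
def Jp_t : TN := (TN.leaf (nat_lit 0))
noncomputable def Jp (i : ℕ) : ℕ := get9 Jp_t (nat_lit 1) (nat_lit 1) i
def J_t : TN := (TN.leaf (nat_lit 0))
noncomputable def J (k : ℕ) : ℕ := getV J_t Jp k
def Pa_t : TN := (TN.leaf (nat_lit 0x8bca2e17ac9ea17a01e607941e3068019e067419b06645992660598265c597265859625545552550554254c55325485522544150053c14e043410c042c10a04245092420508231c4c723184c623140c4020c0820204481210044021000000))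
noncomputable def Pa (i : ℕ) : ℕ := get9 Pa_t (nat_lit 14) (nat_lit 16383) i
def W_t : TL := (TL.node (TL.node (TL.node (TL.node (TL.leaf [nat_lit 2, nat_lit 1, nat_lit 2, nat_lit 2]) (TL.leaf [nat_lit 2050, nat_lit 1, nat_lit 0, nat_lit 2, nat_lit 0, nat_lit 2, nat_lit 0, nat_lit 2, nat_lit 0, nat_lit 2, nat_lit 0, nat_lit 2, nat_lit 0])) (TL.leaf [nat_lit 2052, nat_lit 0, nat_lit 2, nat_lit 0, nat_lit 2, nat_lit 0, nat_lit 2, nat_lit 0, nat_lit 2, nat_lit 0, nat_lit 2, nat_lit 0, nat_lit 2])) (TL.node (TL.leaf [nat_lit 4099, nat_lit 0, nat_lit 2, nat_lit 0, nat_lit 1, nat_lit 0, nat_lit 2, nat_lit 0, nat_lit 1, nat_lit 0, nat_lit 2, nat_lit 0, nat_lit 1]) (TL.leaf [nat_lit 4101, nat_lit 1, nat_lit 0, nat_lit 1, nat_lit 0, nat_lit 2, nat_lit 0, nat_lit 1, nat_lit 0, nat_lit 2, nat_lit 0, nat_lit 1, nat_lit 0]))) (TL.node (TL.node (TL.leaf [nat_lit 2049, nat_lit 0, nat_lit 1, nat_lit 0, nat_lit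 1, nat_lit 0, nat_lit 1, nat_lit 0, nat_lit 1, nat_lit 0, nat_lit 1, nat_lit 0, nat_lit 1]) (TL.leaf [nat_lit 2051, nat_lit 2, nat_lit 0, nat_lit 1, nat_lit 0, nat_lit 1, nat_lit 0, nat_lit 1, nat_lit 0, nat_lit 1, nat_lit 0, nat_lit 1, nat_lit 0])) (TL.node (TL.leaf [nat_lit 4103, nat_lit 0, nat_lit 1, nat_lit 0, nat_lit 2, nat_lit 0, nat_lit 1, nat_lit 0, nat_lit 2, nat_lit 0, nat_lit 1, nat_lit 0, nat_lit 2]) (TL.leaf [nat_lit 1, nat_lit 2, nat_lit 1, nat_lit 1]))))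
noncomputable def W (i : ℕ) : List ℕ := TL.get W_t i
def WA_t : TL := (TL.leaf [nat_lit 0])
noncomputable def WA (i : ℕ) : List ℕ := TL.get WA_t i
noncomputable def row : ℕ → ℕ := hRow (nat_lit 53) (nat_lit 3) (nat_lit 0) (nat_lit 64) (nat_lit 16) (nat_lit 1024) (nat_lit 1024) (nat_lit 1024) (nat_lit 0) E X Pa inv (wfun (nat_lit 9) W_t)
noncomputable def aux : ℕ → ℕ := hAux (nat_lit 54) (nat_lit 3) (nat_lit 64) (nat_lit 1024) (nat_lit 1024) (nat_lit 2) (nat_lit 2) (nat_lit 1024) (nat_lit 0) E X J Pa inv WA_t.get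
theorem r0 : Nat.beq (rng row (nat_lit 0) (nat_lit 54)) (nat_lit 0) = true := by decide +kernel
theorem rows : ∀ i < 54, row i = 0 := by
  have h := zero_lt_zero row
  have h := zero_lt_add (a := (nat_lit 0)) (n := (nat_lit 54)) (b := (nat_lit 54)) h r0 rfl
  exact h
theorem auxs : ∀ i < 0, aux i = 0 := by
  have h := zero_lt_zero aux
  exact h
theorem closes.{u} : ClosesT.{u} inv rels 3 0 54 T :=
  hc_closes (N1 := (nat_lit 53)) rfl T_eq (by decide +kernel) rows auxs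
theorem T_inv : ∀ c < 54, ∀ j < 3, T j c < 54 ∧ T (inv j) (T j c) = c := 
  hc_inv (inv := inv) (N1 := (nat_lit 53)) rfl T_eq rows
end L1

namespace L2
def t0x : TN := (TN.leaf (nat_lit 0xe0192106cee062c00c80834966b2b70e7be1cc0834150266d0e68419408326f02a420c8cc09a08315502ec20c384186a357d302a020c2041820830210601e0570417f1019c105f820beb8089082f4e26d420bcc40aa8812501eb1c3e14a1ba5811680294e853080cb70138105c420b8080c7082def026020b6b53a3082d92a7028d633929e082d4d01ca2041880c41018704eac4060841635131e1058900338416153b4e202fdb1580415f1017a202f020ae080b982d2a202e0405b880b610168202c8405898059082a6202bc405684151600d21053c20a70414d08298c26584051080a11013ec0154404e8809b0828e2025d63bb8414438f1b1012a002d04142101202023840460414010110104f92b2e88085700aef8594a3be300466b2b6104e56db72803b100f6104dc403c04135100ec201d4403a080735b2970859820978412e100d6b696140190806808254201902094080600824e201782093041254a8a81048c402b04121100a41048040280411f39e6694d1549188411d1009220120208c9492c082302010c208b880411007e200f4401e04114100741044c401c0803610068104444018041102802a1043c40168802b1005210434838d88024100441042c400f0801c1003410424400b041071002410414400704104100181040c4005080081000c10404400104100))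
def t1x : TN := (TN.leaf (nat_lit 0x8371a0b3c20d88c2cd8018e4029715e5841a2a89924026820cbd04caa8590e0286604dc80b78011c4022d26dfa40bc0830a30aee625f60dce8015310b14a059ac09d20101437044066380b08898c401e9e056b00ac95568b0221626034090082e830a9d66e204173185493370da049a40776813e50271e2559006e39d64d92bc20b58c2997cb6cd12b8a04a10067189841059061492c0752811ab36f48031ac08c8d17210580614524076082bc30a1c405d14083200b850204802c8c4b5082ac309fca03e10055600f6b1259a03428a78380e0202a84054080a610146501c480260c4a0082923127820a40c26d10130501a48023ac0521892a1050c6133080911891e10504613108089600be20219202e8c484082783096c62410413a184b0201f8623e84138184a8201e540289c26f4009e5013480198c472082603092ca5280806c188d4104b461232003b100caa010840309403e5007e400a0e01e8805a4805e2015d001c880532806a800d88010980341889c1047861190804a50888900b840229402a500384006500148c4400822c3089ca01198d2b2002a60088621b8411218440200c4a00d9cd24200227006862160410e184302009862128410c184282007c620e8410a184202005d000688013300162003ca003980082000a40018620484102184082000c800084100))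
def t2x : TN := (TN.leaf (nat_lit 0xd819d902e08066041b1c819350312c063d80c378d97202be405b300a5a01444024ea059300a95017b402e58047205bc20174106164045880cf887810025c80404c0ab2076a8026c4066b43b070134e0259c356ac3ac8013a105d9ee5b841752014c105d061e5100a3082e620321a1e11007060d3e401b9435a1039e90d8230f18804c0416b1018ac01e8803390395639424024420b2318a8200c6f1afc81c7a858c1877c4022420b0298aa2010c10578405d9005c207084016481c10c3b3200fc10558802a9037d58cf630eb820a92c0784074085e2142c8080a7101484013081b918377400a030e70803604148101324011c81b531879187284019420a1880921871a4018420a08808a586be2021d01ae8c383200b4104f061c09005708274201fc61be1005308270a55a121a8980493869e400cc81a70c37120094104c040378806d186d2401142096ac02f100cc90d0840311002848c7e40d00c29e8805b3868820160e19c8805420042718d8819b945341869a400c4208f0804b4067680cb84023100193804840cb0e2948c33e2004c10458800aa001c2064a51488619a9001f08224200c88008a462b2063a614686195100170821c2009c6191900130821820080618d9000f0821420060e18688014286162004080029460820612314186183900030820420010618088000))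
def t3x : TN := (TN.leaf (nat_lit 0x9019990337046744ccfc01901068c20d15d1cb9018610661a05d4c0a48918e10649c05e84190a016410625a8e0c00ad9016cc33164045440b180151132ec20bfc8088082fd322fe135c0417b80132105e5e45e04178082ecf027420babd1b73810c7021c20b9c91c4101942032580488416f68118105b5d1d50416c6811c105ade8d7880c66010a105a020b304165082c82030968d0880c0082c4c7e6c20b0b209f082c1146e4405f467b43174c6329d6f4b8415b082b41056020ab841561016a202cc20aa0415310160105484057080ac082a0202ac40549805e1014a1052c20a5041491014010520404f0809c101341051820a2880960828620254404a08093082822023c40468808b0827e521d0209e8413c101082020c209d080821010220200209c0807d100f8201e8209b0807708268104c8209884130100e4201c440380806e0825a201a840348412b100ce104a4403184127100be10498402e8805c08248201642091080550824020144208f8804f0823c2013840268804c0823810468402384118100881045c40210411610080200f8208a0803b08226200e42089080371006a200cc20880802f0821e200b820870802c10054200a0208608025100462008420850801d10036200642084080150820c2004420820800d082062002c2081080091000e20014208008001))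
def tt : TN := (TN.node (TN.node (TN.node (TN.node t0x (TN.leaf (nat_lit 0))) (TN.node (TN.leaf (nat_lit 0)) (TN.leaf (nat_lit 0)))) (TN.node (TN.node t2x (TN.leaf (nat_lit 0))) (TN.node (TN.leaf (nat_lit 0)) (TN.leaf (nat_lit 0))))) (TN.node (TN.node (TN.node t1x (TN.leaf (nat_lit 0))) (TN.node (TN.leaf (nat_lit 0)) (TN.leaf (nat_lit 0)))) (TN.node (TN.node t3x (TN.leaf (nat_lit 0))) (TN.node (TN.leaf (nat_lit 0)) (TN.leaf (nat_lit 0))))))
noncomputable def T (j c : ℕ) : ℕ := getL tt (nat_lit 19) (nat_lit 255) j c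
noncomputable def E (j c : ℕ) : ℕ := getL tt (nat_lit 19) (nat_lit 524287) j c
theorem T_eq (j c : ℕ) : T j c = E j c % 256 :=
  getL_mod (a := 8) (b := 19) _ _ (by norm_num) (by norm_num) (by norm_num) (by norm_num) j c
def rels : List (List ℕ) := [[nat_lit 1, nat_lit 1, nat_lit 1], [nat_lit 0, nat_lit 1, nat_lit 0, nat_lit 1, nat_lit 0, nat_lit 1, nat_lit 0, nat_lit 1, nat_lit 0, nat_lit 1, nat_lit 0, nat_lit 1], [nat_lit 1, nat_lit 0, nat_lit 2, nat_lit 0, nat_lit 1, nat_lit 0, nat_lit 2, nat_lit 0, nat_lit 1, nat_lit 0, nat_lit 2, nat_lit 0], [nat_lit 1, nat_lit 3, nat_lit 1, nat_lit 3], [nat_lit 0, nat_lit 2, nat_lit 3, nat_lit 0, nat_lit 2, nat_lit 3, nat_lit 0, nat_lit 2, nat_lit 3, nat_lit 0, nat_lit 2, nat_lit 3, nat_lit 0, nat_lit 2, nat_lit 3, nat_lit 0, nat_lit 2, nat_lit 3], [nat_lit 3, nat_lit 0, nat_lit 1, nat_lit 0, nat_lit 1, nat_lit 0, nat_lit 2, nat_lit 0, nat_lit 3, nat_lit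 2, nat_lit 0, nat_lit 2, nat_lit 0, nat_lit 1, nat_lit 0, nat_lit 1, nat_lit 0], [nat_lit 3, nat_lit 0, nat_lit 1, nat_lit 3, nat_lit 0, nat_lit 3, nat_lit 0, nat_lit 3, nat_lit 2, nat_lit 0, nat_lit 3, nat_lit 0, nat_lit 3, nat_lit 2, nat_lit 0], [nat_lit 3, nat_lit 0, nat_lit 1, nat_lit 3, nat_lit 0, nat_lit 2, nat_lit 0, nat_lit 3, nat_lit 0, nat_lit 1, nat_lit 0, nat_lit 3, nat_lit 0, nat_lit 3, nat_lit 0, nat_lit 2, nat_lit 0, nat_lit 3, nat_lit 1, nat_lit 0, nat_lit 1, nat_lit 0, nat_lit 2], [nat_lit 3, nat_lit 0, nat_lit 1, nat_lit 3, nat_lit 0, nat_lit 2, nat_lit 3, nat_lit 0, nat_lit 3, nat_lit 0, nat_lit 3, nat_lit 0, nat_lit 3, nat_lit 1, nat_lit 0, nat_lit 3, nat_lit 0, nat_lit 3, nat_lit 1, nat_lit 0, nat_lit 3, nat_lit 0, nat_lit 2, nat_lit 0, nat_lit 2]]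
def inv (i : ℕ) : ℕ := Nat.land (Nat.shiftRight (nat_lit 18000) (Nat.mul (nat_lit 3) i)) (nat_lit 7)
def X_t : TN := (TN.leaf (nat_lit 0))
noncomputable def X (i : ℕ) : ℕ := get9 X_t (nat_lit 1) (nat_lit 1) i
def Jp_t : TN := (TN.leaf (nat_lit 0))
noncomputable def Jp (i : ℕ) : ℕ := get9 Jp_t (nat_lit 1) (nat_lit 1) i
def J_t : TN := (TN.leaf (nat_lit 0))
noncomputable def J (k : ℕ) : ℕ := getV J_t Jp k
def Pa_t : TN := (TN.leaf (nat_lit 0xcb81cb30cb11cb12ba40ba33ba23ba21ba00b983b971b940b930b923b910b903b8a0b893b870b860b851b852b840b820b810b800b7f3b7f0b7e3b7e0b7d0b7b3b7a0b793b790b783b763b762a753a752a741a742a733a731a732a710a700a6f3a6f0a6d3a6d0a6c3a6c0a6b3a6b1a6b2a6a0a683a663a653a643a641a642a630a623a620a613a610a603a601a602a5f0a5e1a5e2a5c0a5b3a5a3a583a573a563a561a562a543a533a530a523a522a510a503a4f094e094d094c094b394a39493949194839481948294709463945394409433943194329420941394119412940093f393e093d393c393c193c293a393a193a2939093839381938293709363935093438323831383038301830282f082e082d382d182d282b382a0829382808273827082638260825082438230822382108203820081f381f071e371e171e271d071c371a371907183718071737170716371617162714371407133713071237121712261106103610060f360f060e360e160e260d060c360c160c260b050a350a150a2509050835070506340504043404040334030302330213022201010030000))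
noncomputable def Pa (i : ℕ) : ℕ := get9 Pa_t (nat_lit 16) (nat_lit 65535) i
def W_t : TL := (TL.node (TL.node (TL.node (TL.node (TL.node (TL.node (TL.leaf [nat_lit 2, nat_lit 1, nat_lit 2, nat_lit 2]) (TL.leaf [nat_lit 10242, nat_lit 0, nat_lit 2, nat_lit 0, nat_lit 2, nat_lit 0, nat_lit 1, nat_lit 0, nat_lit 1, nat_lit 3, nat_lit 0, nat_lit 1, nat_lit 0, nat_lit 2, nat_lit 0, nat_lit 2, nat_lit 0, nat_lit 3])) (TL.leaf [nat_lit 10251, nat_lit 0, nat_lit 2, nat_lit 0, nat_lit 3, nat_lit 2, nat_lit 0, nat_lit 2, nat_lit 0, nat_lit 1, nat_lit 0, nat_lit 1, nat_lit 0, nat_lit 3, nat_lit 0, nat_lit 1, nat_lit 0, nat_lit 1])) (TL.node (TL.node (TL.leaf [nat_lit 14347, nat_lit 1, nat_lit 0, nat_lit 3, nat_lit 0, nat_lit 1, nat_lit 0, nat_lit 3, nat_lit 0, nat_lit 3, nat_lit 0, nat_lit 2, nat_lit 0, nat_lit 3, nat_lit 1, nat_lit 0, nat_lit 1, nat_lit 0, nat_lit 2, nat_lit 3, nat_lit 0, nat_lit 1, nat_lit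 3, nat_lit 0]) (TL.leaf [nat_lit 10248, nat_lit 1, nat_lit 0, nat_lit 1, nat_lit 0, nat_lit 1, nat_lit 3, nat_lit 0, nat_lit 1, nat_lit 0, nat_lit 2, nat_lit 0, nat_lit 2, nat_lit 0, nat_lit 3, nat_lit 0, nat_lit 2, nat_lit 0])) (TL.leaf [nat_lit 2052, nat_lit 0, nat_lit 2, nat_lit 0, nat_lit 2, nat_lit 0, nat_lit 2, nat_lit 0, nat_lit 2, nat_lit 0, nat_lit 2, nat_lit 0, nat_lit 2]))) (TL.node (TL.node (TL.node (TL.leaf [nat_lit 2051, nat_lit 2, nat_lit 0, nat_lit 1, nat_lit 0, nat_lit 1, nat_lit 0, nat_lit 1, nat_lit 0, nat_lit 1, nat_lit 0, nat_lit 1, nat_lit 0]) (TL.leaf [nat_lit 14351, nat_lit 3, nat_lit 0, nat_lit 1, nat_lit 0, nat_lit 3, nat_lit 0, nat_lit 3, nat_lit 0, nat_lit 2, nat_lit 0, nat_lit 3, nat_lit 1, nat_lit 0, nat_lit 1, nat_lit 0, nat_lit 2, nat_lit 3, nat_lit 0, nat_lit 1, nat_lit 3, nat_lit 0, nat_lit 2, nat_lit 0])) (TL.leaf [nat_lit 14380, nat_lit 0, nat_lit 3, nat_lit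 1, nat_lit 0, nat_lit 2, nat_lit 0, nat_lit 2, nat_lit 3, nat_lit 0, nat_lit 1, nat_lit 0, nat_lit 3, nat_lit 0, nat_lit 3, nat_lit 0, nat_lit 2, nat_lit 0, nat_lit 3, nat_lit 0, nat_lit 1, nat_lit 0, nat_lit 3, nat_lit 2])) (TL.node (TL.leaf [nat_lit 10266, nat_lit 1, nat_lit 0, nat_lit 2, nat_lit 0, nat_lit 3, nat_lit 0, nat_lit 2, nat_lit 0, nat_lit 2, nat_lit 0, nat_lit 1, nat_lit 0, nat_lit 1, nat_lit 3, nat_lit 0, nat_lit 1, nat_lit 0]) (TL.leaf [nat_lit 16401, nat_lit 3, nat_lit 0, nat_lit 3, nat_lit 0, nat_lit 3, nat_lit 1, nat_lit 0, nat_lit 3, nat_lit 0, nat_lit 3, nat_lit 1, nat_lit 0, nat_lit 3, nat_lit 0, nat_lit 2, nat_lit 0, nat_lit 2, nat_lit 3, nat_lit 0, nat_lit 1, nat_lit 3, nat_lit 0, nat_lit 2, nat_lit 3, nat_lit 0])))) (TL.node (TL.node (TL.node (TL.node (TL.leaf [nat_lit 6148, nat_lit 1, nat_lit 3, nat_lit 2, nat_lit 3]) (TL.leaf [nat_lit 14346, nat_lit 1, nat_lit 3, nat_lit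 0, nat_lit 1, nat_lit 0, nat_lit 3, nat_lit 0, nat_lit 3, nat_lit 0, nat_lit 2, nat_lit 0, nat_lit 3, nat_lit 0, nat_lit 1, nat_lit 0, nat_lit 3, nat_lit 2, nat_lit 0, nat_lit 3, nat_lit 1, nat_lit 0, nat_lit 2, nat_lit 0])) (TL.leaf [nat_lit 10255, nat_lit 0, nat_lit 3, nat_lit 2, nat_lit 0, nat_lit 2, nat_lit 0, nat_lit 1, nat_lit 0, nat_lit 1, nat_lit 0, nat_lit 3, nat_lit 0, nat_lit 1, nat_lit 0, nat_lit 1, nat_lit 0, nat_lit 2])) (TL.node (TL.leaf [nat_lit 6146, nat_lit 3, nat_lit 2, nat_lit 3, nat_lit 2]) (TL.leaf [nat_lit 12293, nat_lit 2, nat_lit 3, nat_lit 0, nat_lit 3, nat_lit 0, nat_lit 3, nat_lit 2, nat_lit 0, nat_lit 3, nat_lit 0, nat_lit 3, nat_lit 2, nat_lit 0, nat_lit 3, nat_lit 0]))) (TL.node (TL.node (TL.node (TL.leaf [nat_lit 12299, nat_lit 3, nat_lit 0, nat_lit 3, nat_lit 2, nat_lit 0, nat_lit 3, nat_lit 0, nat_lit 3, nat_lit 2, nat_lit 0, nat_lit 3, nat_lit 0, nat_lit 1, nat_lit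 3, nat_lit 0]) (TL.leaf [nat_lit 10263, nat_lit 1, nat_lit 0, nat_lit 1, nat_lit 0, nat_lit 1, nat_lit 0, nat_lit 3, nat_lit 0, nat_lit 1, nat_lit 0, nat_lit 1, nat_lit 0, nat_lit 2, nat_lit 0, nat_lit 3, nat_lit 2, nat_lit 0])) (TL.leaf [nat_lit 1, nat_lit 2, nat_lit 1, nat_lit 1])) (TL.node (TL.leaf [nat_lit 16399, nat_lit 0, nat_lit 3, nat_lit 0, nat_lit 3, nat_lit 0, nat_lit 3, nat_lit 1, nat_lit 0, nat_lit 3, nat_lit 0, nat_lit 3, nat_lit 1, nat_lit 0, nat_lit 3, nat_lit 0, nat_lit 2, nat_lit 0, nat_lit 2, nat_lit 3, nat_lit 0, nat_lit 1, nat_lit 3, nat_lit 0, nat_lit 2, nat_lit 3]) (TL.leaf [nat_lit 16425, nat_lit 3, nat_lit 0, nat_lit 2, nat_lit 0, nat_lit 2, nat_lit 3, nat_lit 0, nat_lit 1, nat_lit 3, nat_lit 0, nat_lit 2, nat_lit 3, nat_lit 0, nat_lit 3, nat_lit 0, nat_lit 3, nat_lit 0, nat_lit 3, nat_lit 1, nat_lit 0, nat_lit 3, nat_lit 0, nat_lit 3, nat_lit 1, nat_lit 0]))))) (TL.node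 (TL.node (TL.node (TL.node (TL.node (TL.leaf [nat_lit 6145, nat_lit 2, nat_lit 3, nat_lit 1, nat_lit 3]) (TL.leaf [nat_lit 8197, nat_lit 3, nat_lit 0, nat_lit 2, nat_lit 3, nat_lit 0, nat_lit 2, nat_lit 3, nat_lit 0, nat_lit 2, nat_lit 3, nat_lit 0, nat_lit 2, nat_lit 3, nat_lit 0, nat_lit 2, nat_lit 3, nat_lit 0, nat_lit 2])) (TL.leaf [nat_lit 10247, nat_lit 0, nat_lit 1, nat_lit 0, nat_lit 2, nat_lit 0, nat_lit 3, nat_lit 2, nat_lit 0, nat_lit 2, nat_lit 0, nat_lit 1, nat_lit 0, nat_lit 1, nat_lit 0, nat_lit 3, nat_lit 0, nat_lit 1])) (TL.node (TL.node (TL.leaf [nat_lit 6147, nat_lit 3, nat_lit 1, nat_lit 3, nat_lit 1]) (TL.leaf [nat_lit 8195, nat_lit 1, nat_lit 3, nat_lit 0, nat_lit 2, nat_lit 3, nat_lit 0, nat_lit 2, nat_lit 3, nat_lit 0, nat_lit 2, nat_lit 3, nat_lit 0, nat_lit 2, nat_lit 3, nat_lit 0, nat_lit 2, nat_lit 3, nat_lit 0])) (TL.leaf [nat_lit 12301, nat_lit 0, nat_lit 3, nat_lit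 2, nat_lit 0, nat_lit 3, nat_lit 0, nat_lit 3, nat_lit 2, nat_lit 0, nat_lit 3, nat_lit 0, nat_lit 1, nat_lit 3, nat_lit 0, nat_lit 3]))) (TL.node (TL.node (TL.node (TL.leaf [nat_lit 12307, nat_lit 0, nat_lit 3, nat_lit 0, nat_lit 3, nat_lit 2, nat_lit 0, nat_lit 3, nat_lit 0, nat_lit 1, nat_lit 3, nat_lit 0, nat_lit 3, nat_lit 0, nat_lit 3, nat_lit 2]) (TL.leaf [nat_lit 10241, nat_lit 3, nat_lit 0, nat_lit 1, nat_lit 0, nat_lit 1, nat_lit 0, nat_lit 2, nat_lit 0, nat_lit 3, nat_lit 2, nat_lit 0, nat_lit 2, nat_lit 0, nat_lit 1, nat_lit 0, nat_lit 1, nat_lit 0])) (TL.leaf [nat_lit 14355, nat_lit 2, nat_lit 0, nat_lit 3, nat_lit 0, nat_lit 3, nat_lit 0, nat_lit 2, nat_lit 0, nat_lit 3, nat_lit 1, nat_lit 0, nat_lit 1, nat_lit 0, nat_lit 2, nat_lit 3, nat_lit 0, nat_lit 1, nat_lit 3, nat_lit 0, nat_lit 2, nat_lit 0, nat_lit 3, nat_lit 0])) (TL.node (TL.leaf [nat_lit 14361, nat_lit 0, nat_lit 3,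 nat_lit 0, nat_lit 2, nat_lit 0, nat_lit 3, nat_lit 1, nat_lit 0, nat_lit 1, nat_lit 0, nat_lit 2, nat_lit 3, nat_lit 0, nat_lit 1, nat_lit 3, nat_lit 0, nat_lit 2, nat_lit 0, nat_lit 3, nat_lit 0, nat_lit 1, nat_lit 0, nat_lit 3]) (TL.leaf [nat_lit 16415, nat_lit 3, nat_lit 0, nat_lit 3, nat_lit 1, nat_lit 0, nat_lit 3, nat_lit 0, nat_lit 2, nat_lit 0, nat_lit 2, nat_lit 3, nat_lit 0, nat_lit 1, nat_lit 3, nat_lit 0, nat_lit 2, nat_lit 3, nat_lit 0, nat_lit 3, nat_lit 0, nat_lit 3, nat_lit 0, nat_lit 3, nat_lit 1, nat_lit 0])))) (TL.node (TL.node (TL.node (TL.node (TL.leaf [nat_lit 10249, nat_lit 2, nat_lit 0, nat_lit 2, nat_lit 0, nat_lit 3, nat_lit 2, nat_lit 0, nat_lit 2, nat_lit 0, nat_lit 1, nat_lit 0, nat_lit 1, nat_lit 0, nat_lit 3, nat_lit 0, nat_lit 1, nat_lit 0]) (TL.leaf [nat_lit 10244, nat_lit 1, nat_lit 0, nat_lit 2, nat_lit 0, nat_lit 1, nat_lit 0, nat_lit 1, nat_lit 3, nat_lit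 0, nat_lit 1, nat_lit 0, nat_lit 2, nat_lit 0, nat_lit 2, nat_lit 0, nat_lit 3, nat_lit 0])) (TL.leaf [nat_lit 10245, nat_lit 2, nat_lit 0, nat_lit 1, nat_lit 0, nat_lit 2, nat_lit 0, nat_lit 3, nat_lit 2, nat_lit 0, nat_lit 2, nat_lit 0, nat_lit 1, nat_lit 0, nat_lit 1, nat_lit 0, nat_lit 3, nat_lit 0])) (TL.node (TL.leaf [nat_lit 2050, nat_lit 1, nat_lit 0, nat_lit 2, nat_lit 0, nat_lit 2, nat_lit 0, nat_lit 2, nat_lit 0, nat_lit 2, nat_lit 0, nat_lit 2, nat_lit 0]) (TL.leaf [nat_lit 12297, nat_lit 0, nat_lit 3, nat_lit 0, nat_lit 3, nat_lit 2, nat_lit 0, nat_lit 3, nat_lit 0, nat_lit 3, nat_lit 2, nat_lit 0, nat_lit 3, nat_lit 0, nat_lit 1, nat_lit 3]))) (TL.node (TL.node (TL.node (TL.leaf [nat_lit 8198, nat_lit 0, nat_lit 3, nat_lit 1, nat_lit 0, nat_lit 3, nat_lit 1, nat_lit 0, nat_lit 3, nat_lit 1, nat_lit 0, nat_lit 3, nat_lit 1, nat_lit 0, nat_lit 3, nat_lit 1, nat_lit 0, nat_lit 3, nat_lit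 1]) (TL.leaf [nat_lit 10265, nat_lit 0, nat_lit 1, nat_lit 0, nat_lit 1, nat_lit 0, nat_lit 3, nat_lit 0, nat_lit 1, nat_lit 0, nat_lit 1, nat_lit 0, nat_lit 2, nat_lit 0, nat_lit 3, nat_lit 2, nat_lit 0, nat_lit 2])) (TL.leaf [nat_lit 4103, nat_lit 0, nat_lit 1, nat_lit 0, nat_lit 2, nat_lit 0, nat_lit 1, nat_lit 0, nat_lit 2, nat_lit 0, nat_lit 1, nat_lit 0, nat_lit 2])) (TL.node (TL.leaf [nat_lit 12303, nat_lit 3, nat_lit 2, nat_lit 0, nat_lit 3, nat_lit 0, nat_lit 3, nat_lit 2, nat_lit 0, nat_lit 3, nat_lit 0, nat_lit 1, nat_lit 3, nat_lit 0, nat_lit 3, nat_lit 0]) (TL.leaf [nat_lit 2049, nat_lit 0, nat_lit 1, nat_lit 0, nat_lit 1, nat_lit 0, nat_lit 1, nat_lit 0, nat_lit 1, nat_lit 0, nat_lit 1, nat_lit 0, nat_lit 1]))))))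
noncomputable def W (i : ℕ) : List ℕ := TL.get W_t i
def WA_t : TL := (TL.leaf [nat_lit 0])
noncomputable def WA (i : ℕ) : List ℕ := TL.get WA_t i
noncomputable def row : ℕ → ℕ := hRow (nat_lit 207) (nat_lit 4) (nat_lit 3) (nat_lit 256) (nat_lit 64) (nat_lit 16384) (nat_lit 4096) (nat_lit 4096) (nat_lit 0) E X Pa inv (wfun (nat_lit 42) W_t)
noncomputable def aux : ℕ → ℕ := hAux (nat_lit 208) (nat_lit 4) (nat_lit 256) (nat_lit 16384) (nat_lit 4096) (nat_lit 2) (nat_lit 2) (nat_lit 4096) (nat_lit 0) E X J Pa inv WA_t.get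
theorem r0 : Nat.beq (rng row (nat_lit 0) (nat_lit 208)) (nat_lit 0) = true := by decide +kernel
theorem rows : ∀ i < 208, row i = 0 := by
  have h := zero_lt_zero row
  have h := zero_lt_add (a := (nat_lit 0)) (n := (nat_lit 208)) (b := (nat_lit 208)) h r0 rfl
  exact h
theorem auxs : ∀ i < 0, aux i = 0 := by
  have h := zero_lt_zero aux
  exact h
theorem closes.{u} : ClosesT.{u} inv rels 4 3 208 T :=
  hc_closes (N1 := (nat_lit 207)) rfl T_eq (by decide +kernel) rows auxs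
theorem T_inv : ∀ c < 208, ∀ j < 4, T j c < 208 ∧ T (inv j) (T j c) = c := 
  hc_inv (inv := inv) (N1 := (nat_lit 207)) rfl T_eq rows
end L2

namespace L3
def t0x : TN := (TN.leaf (nat_lit 0x40dc01036bcb05df3016cbc05a810366040d701035b040d3820179cc053304752c405232ed760805e2eed75b404e410332b8051c20174b24d96d0146040c8aa015d040c801031cc005466e15ea5cd88201730805c8103105c04f65011f90045ec01389c050a301259005171016ebdcd7e4014d040c0c201718e15432f56f9c0500102fc040beb0376db6159ecd3648cdd4e57f44c34d0e69355bc041e6374b9c04ac102e75a1566000f6040b92500e8b0dda6b9356b004c2a00ef9404a4102dfac03b020168a004b2beb3761fcbe2d32e040b6a7e73199fcfe300fb925cd4102d29803e0102d0889550102cfa40478201639003c820161924d6288923040b28201608c0466100e38b046c102c78e5d5e289165c0411cad147403a5c00dc040b002015a9c03f8102bd040af1800b9040ae2501058803f4102b6bbc5061cd069374296871508053e000e6040abc102ae8403466d30f851c242014a8b04a820149040a9a59327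040a85f933c040a801029f040a7a3692178dbc5300aba7a4d81029c80031aa373370028d900cc72844e4733a0804f9f7302040a602013b82f46a200ac040a54102940804d010292040a45ba112040a342012d3002401028c040a2c1028a800239700a9040a2420128833bfc2012608049010284040a0d88cea040a042011d8002c01027d080461fb8ed832315600800409ec1027a68029c201110409d9d007e0804382010d0409d177aba5cdc302010b7c02c8201080409c41026e0409b5e24b70409b1fb6c9080404201000409a61d0e2498bc01026559e35167475665b04200f95402756006b6e4bac1025f0803dc200f50803d0200f351a294200ee0409681025804095c200e504095010253080384200e0040944200de080374b36d9640181fb0d508036c200d808035c200d608034dba48804092597486040920200ce0803341024708032d536c4040919cb2be0803212006108030c200c204091010243040908200bf5c02a0200bb58018c102400802d5346673949bc200b40802cc200b155ca906005e0802b4e004d5001c0102370802a8102335591cc102324561f18888f0802885246a0408bc1022e4d99542009b0408b42009a0802641022c50016c200970802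590003808024c102290408a0c46303541a0102260408941022408021c200850802082007f040888200790801e0200770408802007204087ce00352d08c41021d040870c4436040868f5852080198d003a3520f810218080190200623000f4d004e0801742005c08016420056040854102140801402004f04084c2004c08012c2004a0408402004504083c200410800fc1020e0800f02003b040834200390408302003404082c1020a0800ac2002a08009c31412040820200230800842001e08006c2001908005c200160408142001104081010203080024200070800181020108000810200))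
def t1x : TN := (TN.leaf (nat_lit 0xd005df10174c405c4103680c15db3017298057b3d5789f95e6b5b737c05bdf016ec0056ee0b6d1405a8401398005a42017514059840132040cb66014bac0535d014cc4051280160a40481e0d70a0056a1014ea82db2601151004401030e0c156240565040c34305556004fa60b59a404ac40104680525e01147804f5e01226004fead561980491d014874051d700f3142d1a15b4ab804ee3011d140500400ec902d906012fa75d8c102e5a804447010c0c2dac102e10c14e1f0b5f840461eaf34a8039c30b67040b7430531502d4d6010b88355a6012894041c102d60c14aa400d7140496400e81003464d54f040b3830d62040b3680b36040b2c3051f9003b620d508403d0102c80c1469f00e014032450d170c357430b5c040b0830513b8350e40b5298042820157080550500e350036e400bf1002dd801080c3544102b40c141a00b1c880329f01027c2c6de053c6c1485d0523935c9aa0d334c02b1300ab6c03e560b096c03dd900dc6803d588b01582d14500f01403bc4009f100279800ee0c350830b41040a6c304eb60037d60cfd582bf1800aa727c01f00d20c2ce8102960804dc201353002b9b00de0804c1700a1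0804b84008e100235600d80804b0201294802452009048034dd00970c2c9c102850c1341b0cfe642bfda00cc08047a000b310345820119140314500c41001f84007d58030c20112680305e0cda08043dd0ad91402e8500b95c02ec400761001d4504e2502be1600a23802d42010508040c500af7402c44006e1001b5a0ce93802b5100a94402a1600990c33ec30afa0409911009814019450063142a95400720c33d81025d0c33c830af10409703049d0803a9a006a080398b007a08039031ab81001504005350024d6769a40022d0008a5c1281b0ac06832f9400770c335430ad4040929b0c957432c1a0a9408033c5008114020180082100124400486c329030cc70c2b18102450c11f080ca66001e4d007848012c30cbd0c2af0102410c11d0200b6300130c00703001bdc00870c2ac81023c0c11b0a0a92300140102390c11a1104a7102a8cf126659d9fc8004414017c5005e1000cc40032542a3c2009c140160500573801644002f1000b8c00563d698980a885c32181022a0c1148a003b401224c004e300134a003f080230e124f0c321030a8304088c304470801ec90a552c00ac500240801cc500220801c4a003e2800f42006b0801a48003a08019cf0a42383100102192c00d4904360c318430a6004085c304310c316c30a5a0408583042d240084200511c00987002528009c50015140050c0c38080118b0a3708010c5001d1400708001e1000404000f18006c9001a1c48d0900180800c02002c0c30a430a28040824a001214104c30c200c287c102070c10387000c1c002c8000a0c48448000808003452c061800146000418000c4000210000410200))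
def t2x : TN := (TN.leaf (nat_lit 0xa005c740172ccbde440175040da302f78b005c322b74c025ddf015e781dbde076ebc05b2b015b1004e44096b7c25a4201761004c84096794055a5013fa804f440122ac052a72f608004da5277310045440114bc25b67075d9c054840157040c3a3012d1005501030d5404be5011010041e3011c9404920095cab2d8dc07629425922014464bd3dc094870251c601455c03cf02f61bc0444400ed1003b0409415c252d70953742535f0100b41d0c400e30c25a840137040b8690120040b81f0134ac03f0309661004c0102dd149cf8102db080594102d7a01d4440129040b5a5352c100346500fd10249e52f497803f9d094c7003fe8095f100478102cb881d0a1010480040440119040b2203535180458500c994ad69d074e100448102c2a72cec30959040afc201580805546093a54d4ba5350f5c03e172f089024ac40105040ad030750040acde09026403d1d00e5680335c00ce5c03a1700e71002a4400a86843e5500b76843dc400a164bbd60091b5825184009f100278406f21023c572eee8f2c74309401003a81029b6c02ba30726a41ccc102990804f010297102430600b80804e1e2f185c1ba5a2ede0804c5806f6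4cac2df00c07802f952ed88ce4a02012a10022c4008a44bb4de34e40c2494400cf040a1420123080485908cc08047e13503101c5c2011a1001f84007d101b1c408c654bb0c20113641b05c008e8c1c29b008d1001d84007558baec406bd1022f0400960c24241027234bad4201067c23284006d70bac5e00871022c8b06df34bab5206fb4823e9734e6401ab1008ab4801989007a18028dc007f140195534b6581b718008f0c1bc0308ef1002701025c0803ad7009254eaa9006a6701b48200e2700221b00864cba4cb006a441b55108d4580174306da0c23641024b3c1a44f089044013d900546c21b9800530803404004910012172e82101a10408835c018c306c50c23104007b040914a06985df1e4c2e784cd230306ba0c22e44007304090533aa20408fcb08702c19bc306b00c22bc4006b0408f192e9a0408ec400670408e500064102294200a7101a91000551000cc40032101984408600802802009d1000bc4002e34b9644065b102168b2a56280110306950c2250400510408a8b34693c0128b064e2c2134b347144e9dc200890c1a0430880100118102230801f072662040885000380801d0f003724e1309063e2420f42006c24e9407063a0801a0d0024300088a00342820d4800190c197c3085e1000c0102170c1960308571000b01021628d10c200521000544001424b89c606291820a04084208011c4064020c8ac4001010003c72e1e1018804081f14a86c8081a0800d8806180800c42002d10189840825180044908121000243061d0c20704000d04081c6060c18202c7080a08004c70608080038600061418145080414200c310020c180420000))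
def t3x : TN := (TN.leaf (nat_lit 0xc405d737178040da300171c1c5e6b0172ac0576a7174be6dda8015a448dbd8236e040d0c1033b040ce010337040cd020177040cc410330bc04b410326ac04f1d0123a4050a99b60040c6010315a9c5cc10313040c4672370040c3e801579c8562223569c0491c014f040c2c1030a9804a6201176d5d51f0112040c00102fe040bf62011d600434102f9040bdc102f2040bc0102ed0805b687161040bac102ea040ba06012e040b96a9d630805b0102e2040b842016b0805a8102e099ac8020169b00398102dd08059c20166040b6c5293eb88d9660128040b5a40107955d465572c040b4020164040b3e62155708d89c00ce6403ee7013588032e2211e85c528102c9040b22000f47c04042015f848d4200104080578102c2080571e214e08056c102bf0805666e30e5dc524102b808054c20152040ada200d38f6ca8521061002d1f231684031c102b17a6c642014d040ab02014c08052c102aa608484102a7080520102a208051d800dc6c02d5f571a54027c20146040a7420145040a71e00bb0805101029b08050420140708ba42013f040a66b57330804f600097040a582013a0804e4201361402b9d00ad0804c9722f6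0804be000ba040a32000c355bb5c2012b6c02c010289867421b22d2040a1420127080495b23226002a410282870c7c1027e0804702011b815c0c1027c7c02cc1027b7e73602011478024c10276080441c00776c0238102747673b9f22da0409cc2010c0409c82010969c3d431d057ad3141026c080409a22d50409ac422df726b78200ff040998200fc5dc334102640803e8f007a040985d006704097c200f8588a857007150a3cc1025c0803c4200ef0803b1b006908039cd22987c8390200e37402041025176ab041025064021c1024f040931a22bd04092c200d96801b81024a08035010249620a45900520803458005404091c200cc708a54102464401a0200ca040914200c6080310e22a65801e1570796d5af8200c0040904200bc0802e4200b75882801023e3d39599228b0408f0200b20802bc1023b6a526905c7f715a90200ab0408cc200a85400e4700430802941023108028c1023051b0fc2009e4800bc1022d3c00e9222580408b10006f0408ad722840408a98568608025020092080240e544e04089c2008f0802342008a0802201022308020c200800801f41022118a188102200801d500036540174200700408782006d0801a8e4e5951a98ce001d040864f5640040860b0022080194102170801802005e44896c1021608016820057080154200532488a4102130801345001504084410210080120a3e34080110200420408382003d3488e01020d1cc06c1020c0800dc200350800c82002e108898102090800a0102080800942002404081c2001f0800702001a040818102050800502001208003c2000b080028102020408042000408000c10200))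
def t4x : TN := (TN.leaf (nat_lit 0xd405d330177ca05e310175c135db48179b4058f30171cbcdc81034d040d2010347100512f014a84051a10145937d82fef68a804feb014b900556e0132b205cc10321c4056e50169a80479b013d040c4db013cc31d86601129804ea301538c04f81030d8d35962012d8935604010c040c1810303b40490103000805c0400ffa83d9ae0f6c871d242016f0805ba00f6b803da830f6d040bb0102ebb80446d013ba43d9e21f57683d79a1f5cb3650250f598003ce000f18003be9011f8c038196134040b76d0f64a4039ea00fc840439d010b86ed52400f49c0416500d69534a65011b880496300e6843c9ec3d4f6c03e8102cd080588102cba03cda91f5f8403a8400ca9104a2500c88c3c6613d18040b18102c4040b09a00e50805765615ab53506500e39403e20bb2f08055830f52707cb8102b78c02fdd00f5040ad020151983cac102b3080542100d388035c2014e0c3d30102ab040aaa94d30040a9da4d234183e641f0f5d83dc102a072042231f2c7c3ce41029d7d34e01029c7c7cdda00d8040a6c2014308050a0c51d040a6810299a31cc62c526663c51e00cf903c41700a2763a7a24d35040a49b00c30804cc1028f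6ea36c1028c7c02e5980ee84f4064d92a040a25a00af82fc08102856a8b45c0097747b91a00a8080489f009308048030f1c0409f641f1a0409f0201170409ec2011668f378201150409e5d00778aec24102750409d1a008d5c02b410273787b6410272080428500963402c420107080411e009030f2d41026b647b501026a5a02ec102660803f8200fd040991998ce0803ec1026278019c102607001a164ce2040974200f6040971e00e10803c8200f00803b4200e90803a0102556e9b4041eb6040945c0080783b30200df04093dd0eb20803701024b657af0200da0409299006d080355a00527131b010248080348102475c014d10078040919b1e9468017810245080324200c70803141024408030503c82703b00102410802f8200bd0802e8200b8300131200560408f41023c624229d00870802c0200ae3479a5b0ea3743a94200ac5800e4200a90408c8200a60408c4200a40408c19807f0802842009f0408b51002e2cf1641022c44795d10e700802601022a597a0d90e880802544003b080244102273c3934b1e710802382008b04088c20086080210200810801f82007a380085100360801d81021f2900fc1021e0801bc2006e0c61401021b5439941021934007100e42100068c002404085c200630801842005f04085905e5a08016c200583128ac2005404084c81e2808013810211100050b0e340801241020f35310c1020e0801002003e040834c1e370800e830e350800e01020b0800cc2002f040824316250800a44000a08009810207080088200200800741020608006030e12080054102040800402000c040808200080c380c2000504080020001))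
def tt : TN := (TN.node (TN.node (TN.node (TN.node t0x (TN.leaf (nat_lit 0))) (TN.node t4x (TN.leaf (nat_lit 0)))) (TN.node (TN.node t2x (TN.leaf (nat_lit 0))) (TN.node (TN.leaf (nat_lit 0)) (TN.leaf (nat_lit 0))))) (TN.node (TN.node (TN.node t1x (TN.leaf (nat_lit 0))) (TN.node (TN.leaf (nat_lit 0)) (TN.leaf (nat_lit 0)))) (TN.node (TN.node t3x (TN.leaf (nat_lit 0))) (TN.node (TN.leaf (nat_lit 0)) (TN.leaf (nat_lit 0))))))
noncomputable def T (j c : ℕ) : ℕ := getL tt (nat_lit 22) (nat_lit 511) j c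
noncomputable def E (j c : ℕ) : ℕ := getL tt (nat_lit 22) (nat_lit 0x3fffff) j c
theorem T_eq (j c : ℕ) : T j c = E j c % 512 :=
  getL_mod (a := 9) (b := 22) _ _ (by norm_num) (by norm_num) (by norm_num) (by norm_num) j c
def rels : List (List ℕ) := [[nat_lit 1, nat_lit 1, nat_lit 1], [nat_lit 0, nat_lit 1, nat_lit 0, nat_lit 1, nat_lit 0, nat_lit 1, nat_lit 0, nat_lit 1, nat_lit 0, nat_lit 1, nat_lit 0, nat_lit 1], [nat_lit 1, nat_lit 0, nat_lit 2, nat_lit 0, nat_lit 1, nat_lit 0, nat_lit 2, nat_lit 0, nat_lit 1, nat_lit 0, nat_lit 2, nat_lit 0], [nat_lit 1, nat_lit 3, nat_lit 1, nat_lit 3], [nat_lit 0, nat_lit 2, nat_lit 3, nat_lit 0, nat_lit 2, nat_lit 3, nat_lit 0, nat_lit 2, nat_lit 3, nat_lit 0, nat_lit 2, nat_lit 3, nat_lit 0, nat_lit 2, nat_lit 3, nat_lit 0, nat_lit 2, nat_lit 3], [nat_lit 3, nat_lit 0, nat_lit 1, nat_lit 0, nat_lit 1, nat_lit 0, nat_lit 2, nat_lit 0, nat_lit 3, nat_lit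 2, nat_lit 0, nat_lit 2, nat_lit 0, nat_lit 1, nat_lit 0, nat_lit 1, nat_lit 0], [nat_lit 3, nat_lit 0, nat_lit 1, nat_lit 3, nat_lit 0, nat_lit 3, nat_lit 0, nat_lit 3, nat_lit 2, nat_lit 0, nat_lit 3, nat_lit 0, nat_lit 3, nat_lit 2, nat_lit 0], [nat_lit 3, nat_lit 0, nat_lit 1, nat_lit 3, nat_lit 0, nat_lit 2, nat_lit 0, nat_lit 3, nat_lit 0, nat_lit 1, nat_lit 0, nat_lit 3, nat_lit 0, nat_lit 3, nat_lit 0, nat_lit 2, nat_lit 0, nat_lit 3, nat_lit 1, nat_lit 0, nat_lit 1, nat_lit 0, nat_lit 2], [nat_lit 3, nat_lit 0, nat_lit 1, nat_lit 3, nat_lit 0, nat_lit 2, nat_lit 3, nat_lit 0, nat_lit 3, nat_lit 0, nat_lit 3, nat_lit 0, nat_lit 3, nat_lit 1, nat_lit 0, nat_lit 3, nat_lit 0, nat_lit 3, nat_lit 1, nat_lit 0, nat_lit 3, nat_lit 0, nat_lit 2, nat_lit 0, nat_lit 2], [nat_lit 1, nat_lit 4, nat_lit 1, nat_lit 4], [nat_lit 3, nat_lit 4, nat_lit 3, nat_lit 4, nat_lit 3, nat_lit 4], [nat_lit 4,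 nat_lit 0, nat_lit 1, nat_lit 0, nat_lit 4, nat_lit 1, nat_lit 0, nat_lit 1, nat_lit 0, nat_lit 1, nat_lit 3, nat_lit 0, nat_lit 2, nat_lit 0, nat_lit 3, nat_lit 0, nat_lit 2, nat_lit 0], [nat_lit 4, nat_lit 0, nat_lit 4, nat_lit 0, nat_lit 1, nat_lit 0, nat_lit 4, nat_lit 3, nat_lit 0, nat_lit 4, nat_lit 0, nat_lit 2, nat_lit 0, nat_lit 2, nat_lit 3, nat_lit 0, nat_lit 1, nat_lit 0, nat_lit 3], [nat_lit 4, nat_lit 0, nat_lit 3, nat_lit 4, nat_lit 3, nat_lit 0, nat_lit 3, nat_lit 4, nat_lit 3, nat_lit 0, nat_lit 4, nat_lit 0, nat_lit 1, nat_lit 0, nat_lit 2, nat_lit 3, nat_lit 0, nat_lit 3, nat_lit 0, nat_lit 2, nat_lit 0, nat_lit 3, nat_lit 1], [nat_lit 4, nat_lit 0, nat_lit 4, nat_lit 0, nat_lit 3, nat_lit 4, nat_lit 3, nat_lit 0, nat_lit 4, nat_lit 3, nat_lit 0, nat_lit 4, nat_lit 0, nat_lit 1, nat_lit 0, nat_lit 3, nat_lit 0, nat_lit 2, nat_lit 3, nat_lit 0, nat_lit 3, nat_lit 0, nat_lit 2,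 nat_lit 0, nat_lit 3], [nat_lit 4, nat_lit 0, nat_lit 3, nat_lit 0, nat_lit 1, nat_lit 3, nat_lit 0, nat_lit 4, nat_lit 0, nat_lit 4, nat_lit 1, nat_lit 0, nat_lit 4, nat_lit 0, nat_lit 4, nat_lit 1, nat_lit 0, nat_lit 1, nat_lit 3, nat_lit 0, nat_lit 3, nat_lit 0, nat_lit 1, nat_lit 0, nat_lit 2, nat_lit 3, nat_lit 0, nat_lit 3], [nat_lit 4, nat_lit 0, nat_lit 4, nat_lit 0, nat_lit 3, nat_lit 0, nat_lit 3, nat_lit 0, nat_lit 1, nat_lit 4, nat_lit 0, nat_lit 4, nat_lit 3, nat_lit 1, nat_lit 0, nat_lit 3, nat_lit 0, nat_lit 4, nat_lit 0, nat_lit 1, nat_lit 0, nat_lit 3, nat_lit 0, nat_lit 2, nat_lit 3, nat_lit 0, nat_lit 3, nat_lit 1, nat_lit 0, nat_lit 1, nat_lit 0], [nat_lit 4, nat_lit 0, nat_lit 4, nat_lit 0, nat_lit 3, nat_lit 0, nat_lit 4, nat_lit 0, nat_lit 2, nat_lit 4, nat_lit 0, nat_lit 3, nat_lit 0, nat_lit 4, nat_lit 0, nat_lit 3, nat_lit 0, nat_lit 4, nat_lit 2, nat_lit 0, nat_lit 1,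 nat_lit 3, nat_lit 0, nat_lit 2, nat_lit 0, nat_lit 3, nat_lit 2, nat_lit 0, nat_lit 3, nat_lit 0], [nat_lit 4, nat_lit 0, nat_lit 3, nat_lit 0, nat_lit 1, nat_lit 4, nat_lit 0, nat_lit 4, nat_lit 0, nat_lit 3, nat_lit 2, nat_lit 0, nat_lit 4, nat_lit 0, nat_lit 4, nat_lit 2, nat_lit 0, nat_lit 3, nat_lit 0, nat_lit 4, nat_lit 1, nat_lit 0, nat_lit 2, nat_lit 0, nat_lit 2, nat_lit 3, nat_lit 0, nat_lit 2, nat_lit 3, nat_lit 0, nat_lit 1, nat_lit 0]]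
def inv (i : ℕ) : ℕ := Nat.land (Nat.shiftRight (nat_lit 181840) (Nat.mul (nat_lit 3) i)) (nat_lit 7)
def X_t : TN := (TN.leaf (nat_lit 0))
noncomputable def X (i : ℕ) : ℕ := get9 X_t (nat_lit 1) (nat_lit 1) i
def Jp_t : TN := (TN.leaf (nat_lit 0))
noncomputable def Jp (i : ℕ) : ℕ := get9 Jp_t (nat_lit 1) (nat_lit 1) i
def J_t : TN := (TN.leaf (nat_lit 0))
noncomputable def J (k : ℕ) : ℕ := getV J_t Jp k
def Pa_t : TN := (TN.leaf (nat_lit 0x36e0196b0cb41e5a072d059660cae0656c329c194d4ba425d1d2e86773b3b9c1dcdcee6877320b989dcc0ee5a37263b9105c852e40171c0b8c1dc54ee2697133b889dc402e1e770e1b8715c352e1a370d2b859dc28ee0c97034b8185c012e0074fe3a7e9d3f029f414f93a7b9d3c8e9e074ed3a76253ad29d674ea3a741d39c29ca74e51a7205388e9c274e11a7095380e9c054df0a6ea5374e9ba34dd2a6d9d36ca9b414d72a6b1d35869ac54d20a681d340299e74cf0a670d335299a34cb4a658d32ca99414c93a641d320699054c70a6325311298494c23a610d308a98014bf3a5f952f42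97814b83a5c052dd296c74b60a5a252d0696854b34a59952c4e95e14ae09561caad255492aa3953a4a9ce54c12a2395084a812540129f094f04a75253a729c494e1ca702536929b394d8ca6ca5349299494c9ca64a5301297294b1ca58652a1294094924a482522128f494684a312518728c094584a2825129289394484a15250a7285194294a10250612823940849f8e4fa927d093e249f0e4f6927b393d849e824f29276393b049d524e89274393a049cd24e6727249391c9c8a4e2126e0936849b0e4d8126b49359c9a924d2106648331c19420c8906438320c18920c27060482f9c17c20ba905d182e24170e0b8305c282d0416020ae1055482a0414c20a29051382884140e09e904f38261c12d2096704b282524128e09430493824841212090104748239c11c208c9046382304115208a70451822941112088104308210410520827041182094100207e503e381ea40f12078703c181e140ece0764e39171c938dc1c666e330719238c81c628e313718238c0dc5e0e2e0716a38b4dc5a0e2c47161b8b01c566e2a47151b8a85c544e2907140389d1c4e6e260712838901c468e2337118b88c9c440e21371093880dc400e1f470f838791c3c6e1d070e0386d18340c19460c9b06458306c18060ba305cd82e2c17260b23058d82c2c16260a8305018268c1336098304518226c1036080303d181e0c0e46071b038181a8c0d360682830d4180a0b45058282814128a0935048a820d4100a0745039a81c540e480644031a014d00a080444020180c0c048602320099004040080000))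
noncomputable def Pa (i : ℕ) : ℕ := get9 Pa_t (nat_lit 17) (nat_lit 131071) i
def W_t1 : TL := (TL.node (TL.node (TL.node (TL.node (TL.node (TL.node (TL.leaf [nat_lit 2, nat_lit 1, nat_lit 2, nat_lit 2]) (TL.leaf [nat_lit 30770, nat_lit 0, nat_lit 3, nat_lit 0, nat_lit 4, nat_lit 3, nat_lit 0, nat_lit 3, nat_lit 1, nat_lit 0, nat_lit 2, nat_lit 0, nat_lit 3, nat_lit 0, nat_lit 3, nat_lit 2, nat_lit 0, nat_lit 2, nat_lit 4, nat_lit 0, nat_lit 4, nat_lit 0, nat_lit 2, nat_lit 4, nat_lit 0, nat_lit 4, nat_lit 0, nat_lit 3, nat_lit 2])) (TL.node (TL.leaf [nat_lit 22562, nat_lit 0, nat_lit 4, nat_lit 0, nat_lit 1, nat_lit 0, nat_lit 3, nat_lit 0, nat_lit 1, nat_lit 0, nat_lit 3, nat_lit 2, nat_lit 0, nat_lit 2, nat_lit 0, nat_lit 2, nat_lit 4, nat_lit 0, nat_lit 2]) (TL.leaf [nat_lit 24610, nat_lit 4, nat_lit 0, nat_lit 4, nat_lit 3, nat_lit 0, nat_lit 2, nat_lit 0, nat_lit 3, nat_lit 1, nat_lit 0,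 nat_lit 1, nat_lit 0, nat_lit 4, nat_lit 0, nat_lit 3, nat_lit 4, nat_lit 0, nat_lit 2, nat_lit 0]))) (TL.node (TL.node (TL.leaf [nat_lit 12291, nat_lit 0, nat_lit 1, nat_lit 3, nat_lit 0, nat_lit 3, nat_lit 0, nat_lit 3, nat_lit 2, nat_lit 0, nat_lit 3, nat_lit 0, nat_lit 3, nat_lit 2, nat_lit 0, nat_lit 3]) (TL.leaf [nat_lit 30747, nat_lit 0, nat_lit 4, nat_lit 1, nat_lit 0, nat_lit 1, nat_lit 3, nat_lit 0, nat_lit 3, nat_lit 0, nat_lit 1, nat_lit 0, nat_lit 2, nat_lit 3, nat_lit 0, nat_lit 3, nat_lit 4, nat_lit 0, nat_lit 3, nat_lit 0, nat_lit 1, nat_lit 3, nat_lit 0, nat_lit 4, nat_lit 0, nat_lit 4, nat_lit 1, nat_lit 0, nat_lit 4])) (TL.node (TL.leaf [nat_lit 24587, nat_lit 0, nat_lit 4, nat_lit 3, nat_lit 0, nat_lit 4, nat_lit 0, nat_lit 2, nat_lit 0, nat_lit 2, nat_lit 3, nat_lit 0, nat_lit 1, nat_lit 0, nat_lit 3, nat_lit 4, nat_lit 0, nat_lit 4, nat_lit 0, nat_lit 1]) (TL.leaf [nat_lit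 10253, nat_lit 1, nat_lit 0, nat_lit 3, nat_lit 2, nat_lit 0, nat_lit 2, nat_lit 0, nat_lit 1, nat_lit 0, nat_lit 1, nat_lit 0, nat_lit 3, nat_lit 0, nat_lit 1, nat_lit 0, nat_lit 1, nat_lit 0])))) (TL.node (TL.node (TL.node (TL.leaf [nat_lit 26635, nat_lit 0, nat_lit 3, nat_lit 4, nat_lit 3, nat_lit 0, nat_lit 4, nat_lit 0, nat_lit 1, nat_lit 0, nat_lit 2, nat_lit 3, nat_lit 0, nat_lit 3, nat_lit 0, nat_lit 2, nat_lit 0, nat_lit 3, nat_lit 1, nat_lit 4, nat_lit 0, nat_lit 3, nat_lit 4, nat_lit 3]) (TL.leaf [nat_lit 12313, nat_lit 3, nat_lit 2, nat_lit 0, nat_lit 3, nat_lit 0, nat_lit 1, nat_lit 3, nat_lit 0, nat_lit 3, nat_lit 0, nat_lit 3, nat_lit 2, nat_lit 0, nat_lit 3, nat_lit 0])) (TL.node (TL.leaf [nat_lit 14348, nat_lit 3, nat_lit 0, nat_lit 1, nat_lit 0, nat_lit 3, nat_lit 0, nat_lit 3, nat_lit 0, nat_lit 2, nat_lit 0, nat_lit 3, nat_lit 0, nat_lit 1, nat_lit 0, nat_lit 3, nat_lit 2,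 nat_lit 0, nat_lit 3, nat_lit 1, nat_lit 0, nat_lit 2, nat_lit 0, nat_lit 2]) (TL.leaf [nat_lit 2050, nat_lit 1, nat_lit 0, nat_lit 2, nat_lit 0, nat_lit 2, nat_lit 0, nat_lit 2, nat_lit 0, nat_lit 2, nat_lit 0, nat_lit 2, nat_lit 0]))) (TL.node (TL.node (TL.leaf [nat_lit 1, nat_lit 2, nat_lit 1, nat_lit 1]) (TL.leaf [nat_lit 8197, nat_lit 3, nat_lit 0, nat_lit 2, nat_lit 3, nat_lit 0, nat_lit 2, nat_lit 3, nat_lit 0, nat_lit 2, nat_lit 3, nat_lit 0, nat_lit 2, nat_lit 3, nat_lit 0, nat_lit 2, nat_lit 3, nat_lit 0, nat_lit 2])) (TL.node (TL.leaf [nat_lit 8193, nat_lit 0, nat_lit 2, nat_lit 3, nat_lit 0, nat_lit 2, nat_lit 3, nat_lit 0, nat_lit 2, nat_lit 3, nat_lit 0, nat_lit 2, nat_lit 3, nat_lit 0, nat_lit 2, nat_lit 3, nat_lit 0, nat_lit 2, nat_lit 3]) (TL.leaf [nat_lit 26630, nat_lit 0, nat_lit 1, nat_lit 0, nat_lit 3, nat_lit 0, nat_lit 3, nat_lit 1, nat_lit 0, nat_lit 2, nat_lit 0, nat_lit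 4, nat_lit 0, nat_lit 3, nat_lit 4, nat_lit 3, nat_lit 0, nat_lit 3, nat_lit 4, nat_lit 3, nat_lit 0, nat_lit 4, nat_lit 2, nat_lit 3]))))) (TL.node (TL.node (TL.node (TL.node (TL.leaf [nat_lit 18436, nat_lit 1, nat_lit 4, nat_lit 2, nat_lit 4]) (TL.leaf [nat_lit 22542, nat_lit 0, nat_lit 3, nat_lit 2, nat_lit 0, nat_lit 2, nat_lit 0, nat_lit 2, nat_lit 4, nat_lit 0, nat_lit 2, nat_lit 0, nat_lit 4, nat_lit 0, nat_lit 1, nat_lit 0, nat_lit 3, nat_lit 0, nat_lit 1])) (TL.node (TL.leaf [nat_lit 18434, nat_lit 4, nat_lit 2, nat_lit 4, nat_lit 2]) (TL.leaf [nat_lit 8198, nat_lit 0, nat_lit 3, nat_lit 1, nat_lit 0, nat_lit 3, nat_lit 1, nat_lit 0, nat_lit 3, nat_lit 1, nat_lit 0, nat_lit 3, nat_lit 1, nat_lit 0, nat_lit 3, nat_lit 1, nat_lit 0, nat_lit 3, nat_lit 1]))) (TL.node (TL.node (TL.leaf [nat_lit 22553, nat_lit 1, nat_lit 0, nat_lit 3, nat_lit 0, nat_lit 2, nat_lit 0, nat_lit 4, nat_lit 0,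 nat_lit 1, nat_lit 0, nat_lit 4, nat_lit 1, nat_lit 0, nat_lit 1, nat_lit 0, nat_lit 1, nat_lit 3, nat_lit 0]) (TL.leaf [nat_lit 34875, nat_lit 0, nat_lit 4, nat_lit 0, nat_lit 4, nat_lit 0, nat_lit 3, nat_lit 0, nat_lit 4, nat_lit 0, nat_lit 2, nat_lit 4, nat_lit 0, nat_lit 3, nat_lit 0, nat_lit 4, nat_lit 0, nat_lit 3, nat_lit 0, nat_lit 4, nat_lit 2, nat_lit 0, nat_lit 1, nat_lit 3, nat_lit 0, nat_lit 2, nat_lit 0, nat_lit 3, nat_lit 2, nat_lit 0, nat_lit 3])) (TL.node (TL.leaf [nat_lit 16401, nat_lit 3, nat_lit 0, nat_lit 3, nat_lit 0, nat_lit 3, nat_lit 1, nat_lit 0, nat_lit 3, nat_lit 0, nat_lit 3, nat_lit 1, nat_lit 0, nat_lit 3, nat_lit 0, nat_lit 2, nat_lit 0, nat_lit 2, nat_lit 3, nat_lit 0, nat_lit 1, nat_lit 3, nat_lit 0, nat_lit 2, nat_lit 3, nat_lit 0]) (TL.leaf [nat_lit 10247, nat_lit 0, nat_lit 1, nat_lit 0, nat_lit 2, nat_lit 0, nat_lit 3, nat_lit 2, nat_lit 0, nat_lit 2, nat_lit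 0, nat_lit 1, nat_lit 0, nat_lit 1, nat_lit 0, nat_lit 3, nat_lit 0, nat_lit 1])))) (TL.node (TL.node (TL.node (TL.leaf [nat_lit 36910, nat_lit 3, nat_lit 0, nat_lit 4, nat_lit 0, nat_lit 4, nat_lit 2, nat_lit 0, nat_lit 3, nat_lit 0, nat_lit 4, nat_lit 0, nat_lit 2, nat_lit 0, nat_lit 3, nat_lit 1, nat_lit 0, nat_lit 3, nat_lit 1, nat_lit 0, nat_lit 1, nat_lit 0, nat_lit 2, nat_lit 4, nat_lit 0, nat_lit 3, nat_lit 0, nat_lit 1, nat_lit 4, nat_lit 0, nat_lit 4, nat_lit 0, nat_lit 1]) (TL.leaf [nat_lit 10257, nat_lit 3, nat_lit 2, nat_lit 0, nat_lit 2, nat_lit 0, nat_lit 1, nat_lit 0, nat_lit 1, nat_lit 0, nat_lit 3, nat_lit 0, nat_lit 1, nat_lit 0, nat_lit 1, nat_lit 0, nat_lit 2, nat_lit 0])) (TL.node (TL.leaf [nat_lit 14359, nat_lit 3, nat_lit 0, nat_lit 3, nat_lit 0, nat_lit 2, nat_lit 0, nat_lit 3, nat_lit 1, nat_lit 0, nat_lit 1, nat_lit 0, nat_lit 2, nat_lit 3, nat_lit 0, nat_lit 1, nat_lit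 3, nat_lit 0, nat_lit 2, nat_lit 0, nat_lit 3, nat_lit 0, nat_lit 1, nat_lit 0]) (TL.leaf [nat_lit 14349, nat_lit 0, nat_lit 3, nat_lit 0, nat_lit 1, nat_lit 0, nat_lit 3, nat_lit 0, nat_lit 3, nat_lit 0, nat_lit 2, nat_lit 0, nat_lit 3, nat_lit 1, nat_lit 0, nat_lit 1, nat_lit 0, nat_lit 2, nat_lit 3, nat_lit 0, nat_lit 1, nat_lit 3, nat_lit 0, nat_lit 2]))) (TL.node (TL.node (TL.leaf [nat_lit 22529, nat_lit 4, nat_lit 0, nat_lit 1, nat_lit 0, nat_lit 4, nat_lit 1, nat_lit 0, nat_lit 1, nat_lit 0, nat_lit 1, nat_lit 3, nat_lit 0, nat_lit 2, nat_lit 0, nat_lit 3, nat_lit 0, nat_lit 2, nat_lit 0]) (TL.leaf [nat_lit 16399, nat_lit 0, nat_lit 3, nat_lit 0, nat_lit 3, nat_lit 0, nat_lit 3, nat_lit 1, nat_lit 0, nat_lit 3, nat_lit 0, nat_lit 3, nat_lit 1, nat_lit 0, nat_lit 3, nat_lit 0, nat_lit 2, nat_lit 0, nat_lit 2, nat_lit 3, nat_lit 0, nat_lit 1, nat_lit 3, nat_lit 0, nat_lit 2, nat_lit 3]))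 (TL.leaf [nat_lit 12292, nat_lit 2, nat_lit 3, nat_lit 0, nat_lit 3, nat_lit 0, nat_lit 1, nat_lit 3, nat_lit 0, nat_lit 3, nat_lit 0, nat_lit 3, nat_lit 2, nat_lit 0, nat_lit 3, nat_lit 0]))))) (TL.node (TL.node (TL.node (TL.node (TL.node (TL.leaf [nat_lit 6145, nat_lit 2, nat_lit 3, nat_lit 1, nat_lit 3]) (TL.leaf [nat_lit 4099, nat_lit 0, nat_lit 2, nat_lit 0, nat_lit 1, nat_lit 0, nat_lit 2, nat_lit 0, nat_lit 1, nat_lit 0, nat_lit 2, nat_lit 0, nat_lit 1])) (TL.node (TL.leaf [nat_lit 26627, nat_lit 0, nat_lit 3, nat_lit 4, nat_lit 3, nat_lit 0, nat_lit 3, nat_lit 4, nat_lit 3, nat_lit 0, nat_lit 4, nat_lit 0, nat_lit 1, nat_lit 0, nat_lit 2, nat_lit 3, nat_lit 0, nat_lit 3, nat_lit 0, nat_lit 2, nat_lit 0, nat_lit 3, nat_lit 1, nat_lit 4]) (TL.leaf [nat_lit 30734, nat_lit 0, nat_lit 3, nat_lit 0, nat_lit 3, nat_lit 2, nat_lit 0, nat_lit 2, nat_lit 4, nat_lit 0, nat_lit 4, nat_lit 0, nat_lit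 2, nat_lit 4, nat_lit 0, nat_lit 4, nat_lit 0, nat_lit 3, nat_lit 2, nat_lit 0, nat_lit 3, nat_lit 0, nat_lit 4, nat_lit 3, nat_lit 0, nat_lit 3, nat_lit 1, nat_lit 0, nat_lit 2]))) (TL.node (TL.node (TL.leaf [nat_lit 12303, nat_lit 3, nat_lit 2, nat_lit 0, nat_lit 3, nat_lit 0, nat_lit 3, nat_lit 2, nat_lit 0, nat_lit 3, nat_lit 0, nat_lit 1, nat_lit 3, nat_lit 0, nat_lit 3, nat_lit 0]) (TL.leaf [nat_lit 36879, nat_lit 4, nat_lit 0, nat_lit 3, nat_lit 2, nat_lit 0, nat_lit 4, nat_lit 0, nat_lit 4, nat_lit 2, nat_lit 0, nat_lit 3, nat_lit 0, nat_lit 4, nat_lit 1, nat_lit 0, nat_lit 2, nat_lit 0, nat_lit 2, nat_lit 3, nat_lit 0, nat_lit 2, nat_lit 3, nat_lit 0, nat_lit 1, nat_lit 0, nat_lit 4, nat_lit 0, nat_lit 3, nat_lit 0, nat_lit 1, nat_lit 4, nat_lit 0])) (TL.node (TL.leaf [nat_lit 14375, nat_lit 0, nat_lit 1, nat_lit 0, nat_lit 2, nat_lit 3, nat_lit 0, nat_lit 1, nat_lit 3, nat_lit 0, nat_lit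 2, nat_lit 0, nat_lit 3, nat_lit 0, nat_lit 1, nat_lit 0, nat_lit 3, nat_lit 0, nat_lit 3, nat_lit 0, nat_lit 2, nat_lit 0, nat_lit 3, nat_lit 1]) (TL.leaf [nat_lit 36876, nat_lit 0, nat_lit 3, nat_lit 1, nat_lit 0, nat_lit 1, nat_lit 0, nat_lit 2, nat_lit 4, nat_lit 0, nat_lit 3, nat_lit 0, nat_lit 1, nat_lit 4, nat_lit 0, nat_lit 4, nat_lit 0, nat_lit 1, nat_lit 3, nat_lit 0, nat_lit 4, nat_lit 0, nat_lit 4, nat_lit 2, nat_lit 0, nat_lit 3, nat_lit 0, nat_lit 4, nat_lit 0, nat_lit 2, nat_lit 0, nat_lit 3, nat_lit 1])))) (TL.node (TL.node (TL.node (TL.leaf [nat_lit 30762, nat_lit 4, nat_lit 0, nat_lit 3, nat_lit 2, nat_lit 0, nat_lit 3, nat_lit 0, nat_lit 4, nat_lit 3, nat_lit 0, nat_lit 3, nat_lit 1, nat_lit 0, nat_lit 2, nat_lit 0, nat_lit 3, nat_lit 0, nat_lit 3, nat_lit 2, nat_lit 0, nat_lit 2, nat_lit 4, nat_lit 0, nat_lit 4, nat_lit 0, nat_lit 2, nat_lit 4, nat_lit 0]) (TL.leaf [nat_lit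 32791, nat_lit 4, nat_lit 3, nat_lit 1, nat_lit 0, nat_lit 3, nat_lit 0, nat_lit 4, nat_lit 0, nat_lit 1, nat_lit 0, nat_lit 3, nat_lit 0, nat_lit 2, nat_lit 3, nat_lit 0, nat_lit 3, nat_lit 1, nat_lit 0, nat_lit 1, nat_lit 0, nat_lit 4, nat_lit 0, nat_lit 4, nat_lit 0, nat_lit 3, nat_lit 0, nat_lit 3, nat_lit 0, nat_lit 1, nat_lit 4, nat_lit 0])) (TL.node (TL.leaf [nat_lit 10246, nat_lit 0, nat_lit 2, nat_lit 0, nat_lit 1, nat_lit 0, nat_lit 1, nat_lit 3, nat_lit 0, nat_lit 1, nat_lit 0, nat_lit 2, nat_lit 0, nat_lit 2, nat_lit 0, nat_lit 3, nat_lit 0, nat_lit 2]) (TL.leaf [nat_lit 22556, nat_lit 4, nat_lit 0, nat_lit 2, nat_lit 0, nat_lit 4, nat_lit 0, nat_lit 1, nat_lit 0, nat_lit 3, nat_lit 0, nat_lit 1, nat_lit 0, nat_lit 3, nat_lit 2, nat_lit 0, nat_lit 2, nat_lit 0, nat_lit 2]))) (TL.node (TL.node (TL.leaf [nat_lit 10252, nat_lit 2, nat_lit 0, nat_lit 1, nat_lit 3, nat_lit 0, nat_lit 1,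 nat_lit 0, nat_lit 2, nat_lit 0, nat_lit 2, nat_lit 0, nat_lit 3, nat_lit 0, nat_lit 2, nat_lit 0, nat_lit 2, nat_lit 0]) (TL.leaf [nat_lit 24583, nat_lit 0, nat_lit 1, nat_lit 0, nat_lit 4, nat_lit 3, nat_lit 0, nat_lit 4, nat_lit 0, nat_lit 2, nat_lit 0, nat_lit 2, nat_lit 3, nat_lit 0, nat_lit 1, nat_lit 0, nat_lit 3, nat_lit 4, nat_lit 0, nat_lit 4])) (TL.leaf [nat_lit 30733, nat_lit 0, nat_lit 4, nat_lit 0, nat_lit 4, nat_lit 1, nat_lit 0, nat_lit 4, nat_lit 0, nat_lit 4, nat_lit 1, nat_lit 0, nat_lit 1, nat_lit 3, nat_lit 0, nat_lit 3, nat_lit 0, nat_lit 1, nat_lit 0, nat_lit 2, nat_lit 3, nat_lit 0, nat_lit 3, nat_lit 4, nat_lit 0, nat_lit 3, nat_lit 0, nat_lit 1, nat_lit 3])))) (TL.node (TL.node (TL.node (TL.node (TL.leaf [nat_lit 22533, nat_lit 2, nat_lit 0, nat_lit 4, nat_lit 1, nat_lit 0, nat_lit 1, nat_lit 0, nat_lit 1, nat_lit 3, nat_lit 0, nat_lit 2, nat_lit 0, nat_lit 3, nat_lit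 0, nat_lit 2, nat_lit 0, nat_lit 4, nat_lit 0]) (TL.leaf [nat_lit 26639, nat_lit 4, nat_lit 3, nat_lit 0, nat_lit 4, nat_lit 0, nat_lit 1, nat_lit 0, nat_lit 2, nat_lit 3, nat_lit 0, nat_lit 3, nat_lit 0, nat_lit 2, nat_lit 0, nat_lit 3, nat_lit 1, nat_lit 4, nat_lit 0, nat_lit 3, nat_lit 4, nat_lit 3, nat_lit 0, nat_lit 3])) (TL.node (TL.leaf [nat_lit 22555, nat_lit 0, nat_lit 3, nat_lit 0, nat_lit 2, nat_lit 0, nat_lit 4, nat_lit 0, nat_lit 1, nat_lit 0, nat_lit 4, nat_lit 1, nat_lit 0, nat_lit 1, nat_lit 0, nat_lit 1, nat_lit 3, nat_lit 0, nat_lit 2]) (TL.leaf [nat_lit 30753, nat_lit 0, nat_lit 1, nat_lit 3, nat_lit 0, nat_lit 3, nat_lit 0, nat_lit 1, nat_lit 0, nat_lit 2, nat_lit 3, nat_lit 0, nat_lit 3, nat_lit 4, nat_lit 0, nat_lit 3, nat_lit 0, nat_lit 1, nat_lit 3, nat_lit 0, nat_lit 4, nat_lit 0, nat_lit 4, nat_lit 1, nat_lit 0, nat_lit 4, nat_lit 0, nat_lit 4, nat_lit 1]))) (TL.node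 (TL.node (TL.leaf [nat_lit 22549, nat_lit 3, nat_lit 0, nat_lit 2, nat_lit 0, nat_lit 3, nat_lit 0, nat_lit 2, nat_lit 0, nat_lit 4, nat_lit 0, nat_lit 1, nat_lit 0, nat_lit 4, nat_lit 1, nat_lit 0, nat_lit 1, nat_lit 0, nat_lit 1]) (TL.leaf [nat_lit 30743, nat_lit 0, nat_lit 4, nat_lit 0, nat_lit 4, nat_lit 1, nat_lit 0, nat_lit 1, nat_lit 3, nat_lit 0, nat_lit 3, nat_lit 0, nat_lit 1, nat_lit 0, nat_lit 2, nat_lit 3, nat_lit 0, nat_lit 3, nat_lit 4, nat_lit 0, nat_lit 3, nat_lit 0, nat_lit 1, nat_lit 3, nat_lit 0, nat_lit 4, nat_lit 0, nat_lit 4, nat_lit 1])) (TL.node (TL.leaf [nat_lit 12299, nat_lit 3, nat_lit 0, nat_lit 3, nat_lit 2, nat_lit 0, nat_lit 3, nat_lit 0, nat_lit 3, nat_lit 2, nat_lit 0, nat_lit 3, nat_lit 0, nat_lit 1, nat_lit 3, nat_lit 0]) (TL.leaf [nat_lit 24594, nat_lit 0, nat_lit 4, nat_lit 0, nat_lit 3, nat_lit 4, nat_lit 0, nat_lit 2, nat_lit 0, nat_lit 4, nat_lit 0, nat_lit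 4, nat_lit 3, nat_lit 0, nat_lit 2, nat_lit 0, nat_lit 3, nat_lit 1, nat_lit 0, nat_lit 1])))) (TL.node (TL.node (TL.node (TL.leaf [nat_lit 6146, nat_lit 3, nat_lit 2, nat_lit 3, nat_lit 2]) (TL.leaf [nat_lit 22535, nat_lit 0, nat_lit 4, nat_lit 1, nat_lit 0, nat_lit 1, nat_lit 0, nat_lit 1, nat_lit 3, nat_lit 0, nat_lit 2, nat_lit 0, nat_lit 3, nat_lit 0, nat_lit 2, nat_lit 0, nat_lit 4, nat_lit 0, nat_lit 1])) (TL.node (TL.leaf [nat_lit 28677, nat_lit 4, nat_lit 0, nat_lit 3, nat_lit 4, nat_lit 3, nat_lit 0, nat_lit 4, nat_lit 3, nat_lit 0, nat_lit 4, nat_lit 0, nat_lit 1, nat_lit 0, nat_lit 3, nat_lit 0, nat_lit 2, nat_lit 3, nat_lit 0, nat_lit 3, nat_lit 0, nat_lit 2, nat_lit 0, nat_lit 3, nat_lit 4, nat_lit 0]) (TL.leaf [nat_lit 28675, nat_lit 0, nat_lit 4, nat_lit 0, nat_lit 3, nat_lit 4, nat_lit 3, nat_lit 0, nat_lit 4, nat_lit 3, nat_lit 0, nat_lit 4, nat_lit 0, nat_lit 1, nat_lit 0, nat_lit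 3, nat_lit 0, nat_lit 2, nat_lit 3, nat_lit 0, nat_lit 3, nat_lit 0, nat_lit 2, nat_lit 0, nat_lit 3, nat_lit 4]))) (TL.node (TL.node (TL.leaf [nat_lit 22564, nat_lit 4, nat_lit 0, nat_lit 1, nat_lit 0, nat_lit 3, nat_lit 0, nat_lit 1, nat_lit 0, nat_lit 3, nat_lit 2, nat_lit 0, nat_lit 2, nat_lit 0, nat_lit 2, nat_lit 4, nat_lit 0, nat_lit 2, nat_lit 0]) (TL.leaf [nat_lit 4103, nat_lit 0, nat_lit 1, nat_lit 0, nat_lit 2, nat_lit 0, nat_lit 1, nat_lit 0, nat_lit 2, nat_lit 0, nat_lit 1, nat_lit 0, nat_lit 2])) (TL.leaf [nat_lit 22537, nat_lit 4, nat_lit 1, nat_lit 0, nat_lit 1, nat_lit 0, nat_lit 1, nat_lit 3, nat_lit 0, nat_lit 2, nat_lit 0, nat_lit 3, nat_lit 0, nat_lit 2, nat_lit 0, nat_lit 4, nat_lit 0, nat_lit 1, nat_lit 0]))))))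
def W_t2 : TL := (TL.node (TL.node (TL.node (TL.node (TL.node (TL.node (TL.leaf [nat_lit 18433, nat_lit 2, nat_lit 4, nat_lit 1, nat_lit 4]) (TL.leaf [nat_lit 34874, nat_lit 0, nat_lit 4, nat_lit 0, nat_lit 3, nat_lit 0, nat_lit 1, nat_lit 3, nat_lit 0, nat_lit 1, nat_lit 0, nat_lit 3, nat_lit 2, nat_lit 0, nat_lit 1, nat_lit 4, nat_lit 0, nat_lit 3, nat_lit 0, nat_lit 4, nat_lit 0, nat_lit 3, nat_lit 0, nat_lit 4, nat_lit 1, nat_lit 0, nat_lit 4, nat_lit 0, nat_lit 3, nat_lit 0, nat_lit 4])) (TL.node (TL.leaf [nat_lit 22552, nat_lit 0, nat_lit 2, nat_lit 4, nat_lit 0, nat_lit 2, nat_lit 0, nat_lit 4, nat_lit 0, nat_lit 1, nat_lit 0, nat_lit 3, nat_lit 0, nat_lit 1, nat_lit 0, nat_lit 3, nat_lit 2, nat_lit 0, nat_lit 2]) (TL.leaf [nat_lit 24589, nat_lit 4, nat_lit 3, nat_lit 0, nat_lit 4, nat_lit 0, nat_lit 2, nat_lit 0, nat_lit 2, nat_lit 3, nat_lit 0, nat_lit 1, nat_lit 0, nat_lit 3, nat_lit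 4, nat_lit 0, nat_lit 4, nat_lit 0, nat_lit 1, nat_lit 0]))) (TL.node (TL.node (TL.leaf [nat_lit 12293, nat_lit 2, nat_lit 3, nat_lit 0, nat_lit 3, nat_lit 0, nat_lit 3, nat_lit 2, nat_lit 0, nat_lit 3, nat_lit 0, nat_lit 3, nat_lit 2, nat_lit 0, nat_lit 3, nat_lit 0]) (TL.leaf [nat_lit 34835, nat_lit 4, nat_lit 0, nat_lit 3, nat_lit 0, nat_lit 4, nat_lit 0, nat_lit 3, nat_lit 0, nat_lit 4, nat_lit 2, nat_lit 0, nat_lit 1, nat_lit 3, nat_lit 0, nat_lit 2, nat_lit 0, nat_lit 3, nat_lit 2, nat_lit 0, nat_lit 3, nat_lit 0, nat_lit 4, nat_lit 0, nat_lit 4, nat_lit 0, nat_lit 3, nat_lit 0, nat_lit 4, nat_lit 0, nat_lit 2])) (TL.node (TL.leaf [nat_lit 26665, nat_lit 0, nat_lit 3, nat_lit 1, nat_lit 4, nat_lit 0, nat_lit 3, nat_lit 4, nat_lit 3, nat_lit 0, nat_lit 3, nat_lit 4, nat_lit 3, nat_lit 0, nat_lit 4, nat_lit 0, nat_lit 1, nat_lit 0, nat_lit 2, nat_lit 3, nat_lit 0, nat_lit 3, nat_lit 0, nat_lit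 2]) (TL.leaf [nat_lit 10265, nat_lit 0, nat_lit 1, nat_lit 0, nat_lit 1, nat_lit 0, nat_lit 3, nat_lit 0, nat_lit 1, nat_lit 0, nat_lit 1, nat_lit 0, nat_lit 2, nat_lit 0, nat_lit 3, nat_lit 2, nat_lit 0, nat_lit 2])))) (TL.node (TL.node (TL.node (TL.leaf [nat_lit 28712, nat_lit 4, nat_lit 3, nat_lit 0, nat_lit 4, nat_lit 0, nat_lit 4, nat_lit 3, nat_lit 0, nat_lit 1, nat_lit 0, nat_lit 3, nat_lit 0, nat_lit 3, nat_lit 1, nat_lit 0, nat_lit 3, nat_lit 0, nat_lit 2, nat_lit 0, nat_lit 4, nat_lit 0, nat_lit 3, nat_lit 4, nat_lit 0, nat_lit 3]) (TL.leaf [nat_lit 22531, nat_lit 0, nat_lit 1, nat_lit 0, nat_lit 4, nat_lit 1, nat_lit 0, nat_lit 1, nat_lit 0, nat_lit 1, nat_lit 3, nat_lit 0, nat_lit 2, nat_lit 0, nat_lit 3, nat_lit 0, nat_lit 2, nat_lit 0, nat_lit 4])) (TL.node (TL.leaf [nat_lit 6147, nat_lit 3, nat_lit 1, nat_lit 3, nat_lit 1]) (TL.leaf [nat_lit 10263, nat_lit 1, nat_lit 0, nat_lit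 1, nat_lit 0, nat_lit 1, nat_lit 0, nat_lit 3, nat_lit 0, nat_lit 1, nat_lit 0, nat_lit 1, nat_lit 0, nat_lit 2, nat_lit 0, nat_lit 3, nat_lit 2, nat_lit 0]))) (TL.node (TL.node (TL.leaf [nat_lit 12307, nat_lit 0, nat_lit 3, nat_lit 0, nat_lit 3, nat_lit 2, nat_lit 0, nat_lit 3, nat_lit 0, nat_lit 1, nat_lit 3, nat_lit 0, nat_lit 3, nat_lit 0, nat_lit 3, nat_lit 2]) (TL.leaf [nat_lit 24604, nat_lit 0, nat_lit 2, nat_lit 0, nat_lit 4, nat_lit 0, nat_lit 4, nat_lit 3, nat_lit 0, nat_lit 2, nat_lit 0, nat_lit 3, nat_lit 1, nat_lit 0, nat_lit 1, nat_lit 0, nat_lit 4, nat_lit 0, nat_lit 3, nat_lit 4])) (TL.leaf [nat_lit 14381, nat_lit 1, nat_lit 3, nat_lit 0, nat_lit 1, nat_lit 3, nat_lit 0, nat_lit 2, nat_lit 0, nat_lit 3, nat_lit 0, nat_lit 1, nat_lit 0, nat_lit 3, nat_lit 0, nat_lit 3, nat_lit 0, nat_lit 2, nat_lit 0, nat_lit 3, nat_lit 1, nat_lit 0, nat_lit 1, nat_lit 0])))) (TL.node (TL.node (TL.node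 (TL.node (TL.leaf [nat_lit 20483, nat_lit 4, nat_lit 3, nat_lit 4, nat_lit 3, nat_lit 4, nat_lit 3]) (TL.leaf [nat_lit 24602, nat_lit 4, nat_lit 0, nat_lit 2, nat_lit 0, nat_lit 4, nat_lit 0, nat_lit 4, nat_lit 3, nat_lit 0, nat_lit 2, nat_lit 0, nat_lit 3, nat_lit 1, nat_lit 0, nat_lit 1, nat_lit 0, nat_lit 4, nat_lit 0, nat_lit 3])) (TL.node (TL.leaf [nat_lit 22557, nat_lit 3, nat_lit 0, nat_lit 2, nat_lit 0, nat_lit 4, nat_lit 0, nat_lit 1, nat_lit 0, nat_lit 4, nat_lit 1, nat_lit 0, nat_lit 1, nat_lit 0, nat_lit 1, nat_lit 3, nat_lit 0, nat_lit 2, nat_lit 0]) (TL.leaf [nat_lit 26634, nat_lit 0, nat_lit 3, nat_lit 0, nat_lit 3, nat_lit 1, nat_lit 0, nat_lit 2, nat_lit 0, nat_lit 4, nat_lit 0, nat_lit 3, nat_lit 4, nat_lit 3, nat_lit 0, nat_lit 3, nat_lit 4, nat_lit 3, nat_lit 0, nat_lit 4, nat_lit 2, nat_lit 3, nat_lit 0, nat_lit 1]))) (TL.node (TL.node (TL.leaf [nat_lit 2051, nat_lit 2, nat_lit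 0, nat_lit 1, nat_lit 0, nat_lit 1, nat_lit 0, nat_lit 1, nat_lit 0, nat_lit 1, nat_lit 0, nat_lit 1, nat_lit 0]) (TL.leaf [nat_lit 4101, nat_lit 1, nat_lit 0, nat_lit 1, nat_lit 0, nat_lit 2, nat_lit 0, nat_lit 1, nat_lit 0, nat_lit 2, nat_lit 0, nat_lit 1, nat_lit 0])) (TL.node (TL.leaf [nat_lit 34825, nat_lit 3, nat_lit 0, nat_lit 4, nat_lit 0, nat_lit 2, nat_lit 4, nat_lit 0, nat_lit 3, nat_lit 0, nat_lit 4, nat_lit 0, nat_lit 3, nat_lit 0, nat_lit 4, nat_lit 2, nat_lit 0, nat_lit 1, nat_lit 3, nat_lit 0, nat_lit 2, nat_lit 0, nat_lit 3, nat_lit 2, nat_lit 0, nat_lit 3, nat_lit 0, nat_lit 4, nat_lit 0, nat_lit 4, nat_lit 0]) (TL.leaf [nat_lit 26645, nat_lit 4, nat_lit 0, nat_lit 1, nat_lit 0, nat_lit 2, nat_lit 3, nat_lit 0, nat_lit 3, nat_lit 0, nat_lit 2, nat_lit 0, nat_lit 3, nat_lit 1, nat_lit 4, nat_lit 0, nat_lit 3, nat_lit 4, nat_lit 3, nat_lit 0, nat_lit 3, nat_lit 4, nat_lit 3, nat_lit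 0])))) (TL.node (TL.node (TL.node (TL.leaf [nat_lit 18435, nat_lit 4, nat_lit 1, nat_lit 4, nat_lit 1]) (TL.leaf [nat_lit 22560, nat_lit 1, nat_lit 0, nat_lit 4, nat_lit 0, nat_lit 1, nat_lit 0, nat_lit 3, nat_lit 0, nat_lit 1, nat_lit 0, nat_lit 3, nat_lit 2, nat_lit 0, nat_lit 2, nat_lit 0, nat_lit 2, nat_lit 4, nat_lit 0])) (TL.node (TL.leaf [nat_lit 26656, nat_lit 4, nat_lit 3, nat_lit 0, nat_lit 3, nat_lit 4, nat_lit 3, nat_lit 0, nat_lit 4, nat_lit 2, nat_lit 3, nat_lit 0, nat_lit 1, nat_lit 0, nat_lit 3, nat_lit 0, nat_lit 3, nat_lit 1, nat_lit 0, nat_lit 2, nat_lit 0, nat_lit 4, nat_lit 0, nat_lit 3]) (TL.leaf [nat_lit 26670, nat_lit 4, nat_lit 2, nat_lit 3, nat_lit 0, nat_lit 1, nat_lit 0, nat_lit 3, nat_lit 0, nat_lit 3, nat_lit 1, nat_lit 0, nat_lit 2, nat_lit 0, nat_lit 4, nat_lit 0, nat_lit 3, nat_lit 4, nat_lit 3, nat_lit 0, nat_lit 3, nat_lit 4, nat_lit 3, nat_lit 0]))) (TL.node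 (TL.node (TL.leaf [nat_lit 28710, nat_lit 3, nat_lit 4, nat_lit 3, nat_lit 0, nat_lit 4, nat_lit 0, nat_lit 4, nat_lit 3, nat_lit 0, nat_lit 1, nat_lit 0, nat_lit 3, nat_lit 0, nat_lit 3, nat_lit 1, nat_lit 0, nat_lit 3, nat_lit 0, nat_lit 2, nat_lit 0, nat_lit 4, nat_lit 0, nat_lit 3, nat_lit 4, nat_lit 0]) (TL.leaf [nat_lit 36890, nat_lit 4, nat_lit 0, nat_lit 3, nat_lit 0, nat_lit 1, nat_lit 4, nat_lit 0, nat_lit 4, nat_lit 0, nat_lit 1, nat_lit 3, nat_lit 0, nat_lit 4, nat_lit 0, nat_lit 4, nat_lit 2, nat_lit 0, nat_lit 3, nat_lit 0, nat_lit 4, nat_lit 0, nat_lit 2, nat_lit 0, nat_lit 3, nat_lit 1, nat_lit 0, nat_lit 3, nat_lit 1, nat_lit 0, nat_lit 1, nat_lit 0, nat_lit 2])) (TL.leaf [nat_lit 12297, nat_lit 0, nat_lit 3, nat_lit 0, nat_lit 3, nat_lit 2, nat_lit 0, nat_lit 3, nat_lit 0, nat_lit 3, nat_lit 2, nat_lit 0, nat_lit 3, nat_lit 0, nat_lit 1, nat_lit 3]))))) (TL.node (TL.node (TL.node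 (TL.node (TL.node (TL.leaf [nat_lit 6148, nat_lit 1, nat_lit 3, nat_lit 2, nat_lit 3]) (TL.leaf [nat_lit 10244, nat_lit 1, nat_lit 0, nat_lit 2, nat_lit 0, nat_lit 1, nat_lit 0, nat_lit 1, nat_lit 3, nat_lit 0, nat_lit 1, nat_lit 0, nat_lit 2, nat_lit 0, nat_lit 2, nat_lit 0, nat_lit 3, nat_lit 0])) (TL.node (TL.leaf [nat_lit 30749, nat_lit 4, nat_lit 1, nat_lit 0, nat_lit 1, nat_lit 3, nat_lit 0, nat_lit 3, nat_lit 0, nat_lit 1, nat_lit 0, nat_lit 2, nat_lit 3, nat_lit 0, nat_lit 3, nat_lit 4, nat_lit 0, nat_lit 3, nat_lit 0, nat_lit 1, nat_lit 3, nat_lit 0, nat_lit 4, nat_lit 0, nat_lit 4, nat_lit 1, nat_lit 0, nat_lit 4, nat_lit 0]) (TL.leaf [nat_lit 4097, nat_lit 2, nat_lit 0, nat_lit 2, nat_lit 0, nat_lit 1, nat_lit 0, nat_lit 2, nat_lit 0, nat_lit 1, nat_lit 0, nat_lit 2, nat_lit 0]))) (TL.node (TL.node (TL.leaf [nat_lit 10249, nat_lit 2, nat_lit 0, nat_lit 2, nat_lit 0, nat_lit 3, nat_lit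 2, nat_lit 0, nat_lit 2, nat_lit 0, nat_lit 1, nat_lit 0, nat_lit 1, nat_lit 0, nat_lit 3, nat_lit 0, nat_lit 1, nat_lit 0]) (TL.leaf [nat_lit 26658, nat_lit 3, nat_lit 0, nat_lit 3, nat_lit 4, nat_lit 3, nat_lit 0, nat_lit 4, nat_lit 2, nat_lit 3, nat_lit 0, nat_lit 1, nat_lit 0, nat_lit 3, nat_lit 0, nat_lit 3, nat_lit 1, nat_lit 0, nat_lit 2, nat_lit 0, nat_lit 4, nat_lit 0, nat_lit 3, nat_lit 4])) (TL.node (TL.leaf [nat_lit 24591, nat_lit 3, nat_lit 0, nat_lit 4, nat_lit 0, nat_lit 2, nat_lit 0, nat_lit 2, nat_lit 3, nat_lit 0, nat_lit 1, nat_lit 0, nat_lit 3, nat_lit 4, nat_lit 0, nat_lit 4, nat_lit 0, nat_lit 1, nat_lit 0, nat_lit 4]) (TL.leaf [nat_lit 24597, nat_lit 0, nat_lit 2, nat_lit 0, nat_lit 2, nat_lit 3, nat_lit 0, nat_lit 1, nat_lit 0, nat_lit 3, nat_lit 4, nat_lit 0, nat_lit 4, nat_lit 0, nat_lit 1, nat_lit 0, nat_lit 4, nat_lit 3, nat_lit 0, nat_lit 4])))) (TL.node (TL.node (TL.node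 (TL.leaf [nat_lit 32814, nat_lit 1, nat_lit 0, nat_lit 3, nat_lit 0, nat_lit 3, nat_lit 0, nat_lit 4, nat_lit 0, nat_lit 4, nat_lit 0, nat_lit 2, nat_lit 0, nat_lit 2, nat_lit 3, nat_lit 0, nat_lit 3, nat_lit 1, nat_lit 0, nat_lit 3, nat_lit 0, nat_lit 2, nat_lit 0, nat_lit 4, nat_lit 0, nat_lit 3, nat_lit 0, nat_lit 2, nat_lit 3, nat_lit 4, nat_lit 0, nat_lit 4]) (TL.leaf [nat_lit 12295, nat_lit 3, nat_lit 0, nat_lit 3, nat_lit 0, nat_lit 3, nat_lit 2, nat_lit 0, nat_lit 3, nat_lit 0, nat_lit 3, nat_lit 2, nat_lit 0, nat_lit 3, nat_lit 0, nat_lit 1])) (TL.node (TL.leaf [nat_lit 8195, nat_lit 1, nat_lit 3, nat_lit 0, nat_lit 2, nat_lit 3, nat_lit 0, nat_lit 2, nat_lit 3, nat_lit 0, nat_lit 2, nat_lit 3, nat_lit 0, nat_lit 2, nat_lit 3, nat_lit 0, nat_lit 2, nat_lit 3, nat_lit 0]) (TL.leaf [nat_lit 24613, nat_lit 3, nat_lit 4, nat_lit 0, nat_lit 4, nat_lit 0, nat_lit 1, nat_lit 0, nat_lit 4, nat_lit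 3, nat_lit 0, nat_lit 4, nat_lit 0, nat_lit 2, nat_lit 0, nat_lit 2, nat_lit 3, nat_lit 0, nat_lit 1, nat_lit 0]))) (TL.node (TL.node (TL.leaf [nat_lit 10271, nat_lit 2, nat_lit 0, nat_lit 3, nat_lit 0, nat_lit 1, nat_lit 0, nat_lit 1, nat_lit 0, nat_lit 2, nat_lit 0, nat_lit 3, nat_lit 2, nat_lit 0, nat_lit 2, nat_lit 0, nat_lit 1, nat_lit 0]) (TL.leaf [nat_lit 24577, nat_lit 4, nat_lit 0, nat_lit 4, nat_lit 0, nat_lit 1, nat_lit 0, nat_lit 4, nat_lit 3, nat_lit 0, nat_lit 4, nat_lit 0, nat_lit 2, nat_lit 0, nat_lit 2, nat_lit 3, nat_lit 0, nat_lit 1, nat_lit 0, nat_lit 3])) (TL.leaf [nat_lit 34819, nat_lit 0, nat_lit 4, nat_lit 0, nat_lit 3, nat_lit 0, nat_lit 4, nat_lit 0, nat_lit 2, nat_lit 4, nat_lit 0, nat_lit 3, nat_lit 0, nat_lit 4, nat_lit 0, nat_lit 3, nat_lit 0, nat_lit 4, nat_lit 2, nat_lit 0, nat_lit 1, nat_lit 3, nat_lit 0, nat_lit 2, nat_lit 0, nat_lit 3, nat_lit 2, nat_lit 0, nat_lit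 3, nat_lit 0, nat_lit 4])))) (TL.node (TL.node (TL.node (TL.node (TL.leaf [nat_lit 24606, nat_lit 1, nat_lit 0, nat_lit 4, nat_lit 0, nat_lit 4, nat_lit 3, nat_lit 0, nat_lit 2, nat_lit 0, nat_lit 3, nat_lit 1, nat_lit 0, nat_lit 1, nat_lit 0, nat_lit 4, nat_lit 0, nat_lit 3, nat_lit 4, nat_lit 0]) (TL.leaf [nat_lit 2049, nat_lit 0, nat_lit 1, nat_lit 0, nat_lit 1, nat_lit 0, nat_lit 1, nat_lit 0, nat_lit 1, nat_lit 0, nat_lit 1, nat_lit 0, nat_lit 1])) (TL.node (TL.leaf [nat_lit 24579, nat_lit 0, nat_lit 4, nat_lit 0, nat_lit 1, nat_lit 0, nat_lit 4, nat_lit 3, nat_lit 0, nat_lit 4, nat_lit 0, nat_lit 2, nat_lit 0, nat_lit 2, nat_lit 3, nat_lit 0, nat_lit 1, nat_lit 0, nat_lit 3, nat_lit 4]) (TL.leaf [nat_lit 2052, nat_lit 0, nat_lit 2, nat_lit 0, nat_lit 2, nat_lit 0, nat_lit 2, nat_lit 0, nat_lit 2, nat_lit 0, nat_lit 2, nat_lit 0, nat_lit 2]))) (TL.node (TL.node (TL.leaf [nat_lit 26649, nat_lit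 2, nat_lit 0, nat_lit 2, nat_lit 3, nat_lit 0, nat_lit 3, nat_lit 0, nat_lit 2, nat_lit 0, nat_lit 3, nat_lit 1, nat_lit 4, nat_lit 0, nat_lit 3, nat_lit 4, nat_lit 3, nat_lit 0, nat_lit 3, nat_lit 4, nat_lit 3, nat_lit 0, nat_lit 4, nat_lit 0]) (TL.leaf [nat_lit 34827, nat_lit 0, nat_lit 4, nat_lit 0, nat_lit 2, nat_lit 4, nat_lit 0, nat_lit 3, nat_lit 0, nat_lit 4, nat_lit 0, nat_lit 3, nat_lit 0, nat_lit 4, nat_lit 2, nat_lit 0, nat_lit 1, nat_lit 3, nat_lit 0, nat_lit 2, nat_lit 0, nat_lit 3, nat_lit 2, nat_lit 0, nat_lit 3, nat_lit 0, nat_lit 4, nat_lit 0, nat_lit 4, nat_lit 0, nat_lit 3])) (TL.node (TL.leaf [nat_lit 10261, nat_lit 0, nat_lit 2, nat_lit 0, nat_lit 1, nat_lit 0, nat_lit 1, nat_lit 0, nat_lit 3, nat_lit 0, nat_lit 1, nat_lit 0, nat_lit 1, nat_lit 0, nat_lit 2, nat_lit 0, nat_lit 3, nat_lit 2]) (TL.leaf [nat_lit 24581, nat_lit 4, nat_lit 0, nat_lit 1, nat_lit 0, nat_lit 4, nat_lit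 3, nat_lit 0, nat_lit 4, nat_lit 0, nat_lit 2, nat_lit 0, nat_lit 2, nat_lit 3, nat_lit 0, nat_lit 1, nat_lit 0, nat_lit 3, nat_lit 4, nat_lit 0])))) (TL.node (TL.node (TL.node (TL.leaf [nat_lit 20481, nat_lit 3, nat_lit 4, nat_lit 3, nat_lit 4, nat_lit 3, nat_lit 4]) (TL.leaf [nat_lit 28683, nat_lit 4, nat_lit 3, nat_lit 0, nat_lit 4, nat_lit 3, nat_lit 0, nat_lit 4, nat_lit 0, nat_lit 1, nat_lit 0, nat_lit 3, nat_lit 0, nat_lit 2, nat_lit 3, nat_lit 0, nat_lit 3, nat_lit 0, nat_lit 2, nat_lit 0, nat_lit 3, nat_lit 4, nat_lit 0, nat_lit 4, nat_lit 0, nat_lit 3])) (TL.node (TL.leaf [nat_lit 32816, nat_lit 0, nat_lit 3, nat_lit 0, nat_lit 3, nat_lit 0, nat_lit 4, nat_lit 0, nat_lit 4, nat_lit 0, nat_lit 2, nat_lit 0, nat_lit 2, nat_lit 3, nat_lit 0, nat_lit 3, nat_lit 1, nat_lit 0, nat_lit 3, nat_lit 0, nat_lit 2, nat_lit 0, nat_lit 4, nat_lit 0, nat_lit 3, nat_lit 0, nat_lit 2, nat_lit 3, nat_lit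 4, nat_lit 0, nat_lit 4, nat_lit 2]) (TL.leaf [nat_lit 10241, nat_lit 3, nat_lit 0, nat_lit 1, nat_lit 0, nat_lit 1, nat_lit 0, nat_lit 2, nat_lit 0, nat_lit 3, nat_lit 2, nat_lit 0, nat_lit 2, nat_lit 0, nat_lit 1, nat_lit 0, nat_lit 1, nat_lit 0]))) (TL.node (TL.node (TL.leaf [nat_lit 24601, nat_lit 0, nat_lit 2, nat_lit 3, nat_lit 0, nat_lit 1, nat_lit 0, nat_lit 3, nat_lit 4, nat_lit 0, nat_lit 4, nat_lit 0, nat_lit 1, nat_lit 0, nat_lit 4, nat_lit 3, nat_lit 0, nat_lit 4, nat_lit 0, nat_lit 2]) (TL.leaf [nat_lit 24605, nat_lit 3, nat_lit 0, nat_lit 1, nat_lit 0, nat_lit 3, nat_lit 4, nat_lit 0, nat_lit 4, nat_lit 0, nat_lit 1, nat_lit 0, nat_lit 4, nat_lit 3, nat_lit 0, nat_lit 4, nat_lit 0, nat_lit 2, nat_lit 0, nat_lit 2])) (TL.leaf [nat_lit 28691, nat_lit 3, nat_lit 0, nat_lit 4, nat_lit 0, nat_lit 1, nat_lit 0, nat_lit 3, nat_lit 0, nat_lit 2, nat_lit 3, nat_lit 0, nat_lit 3, nat_lit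 0, nat_lit 2, nat_lit 0, nat_lit 3, nat_lit 4, nat_lit 0, nat_lit 4, nat_lit 0, nat_lit 3, nat_lit 4, nat_lit 3, nat_lit 0, nat_lit 4]))))))
def W_t : TL := (TL.node W_t1 W_t2)
noncomputable def W (i : ℕ) : List ℕ := TL.get W_t i
def WA_t : TL := (TL.leaf [nat_lit 0])
noncomputable def WA (i : ℕ) : List ℕ := TL.get WA_t i
noncomputable def row : ℕ → ℕ := hRow (nat_lit 377) (nat_lit 5) (nat_lit 4) (nat_lit 512) (nat_lit 128) (nat_lit 65536) (nat_lit 8192) (nat_lit 8192) (nat_lit 0) E X Pa inv (wfun (nat_lit 121) W_t)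
noncomputable def aux : ℕ → ℕ := hAux (nat_lit 378) (nat_lit 5) (nat_lit 512) (nat_lit 65536) (nat_lit 8192) (nat_lit 2) (nat_lit 2) (nat_lit 8192) (nat_lit 0) E X J Pa inv WA_t.get
theorem r0 : Nat.beq (rng row (nat_lit 0) (nat_lit 378)) (nat_lit 0) = true := by decide +kernel
theorem rows : ∀ i < 378, row i = 0 := by
  have h := zero_lt_zero row
  have h := zero_lt_add (a := (nat_lit 0)) (n := (nat_lit 378)) (b := (nat_lit 378)) h r0 rfl
  exact h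
theorem auxs : ∀ i < 0, aux i = 0 := by
  have h := zero_lt_zero aux
  exact h
theorem closes.{u} : ClosesT.{u} inv rels 5 4 378 T :=
  hc_closes (N1 := (nat_lit 377)) rfl T_eq (by decide +kernel) rows auxs
theorem T_inv : ∀ c < 378, ∀ j < 5, T j c < 378 ∧ T (inv j) (T j c) = c := 
  hc_inv (inv := inv) (N1 := (nat_lit 377)) rfl T_eq rows
end L3

def rels : List (List ℕ) := [[nat_lit 1, nat_lit 1, nat_lit 1], [nat_lit 0, nat_lit 1, nat_lit 0, nat_lit 1, nat_lit 0, nat_lit 1, nat_lit 0, nat_lit 1, nat_lit 0, nat_lit 1, nat_lit 0, nat_lit 1], [nat_lit 1, nat_lit 0, nat_lit 2, nat_lit 0, nat_lit 1, nat_lit 0, nat_lit 2, nat_lit 0, nat_lit 1, nat_lit 0, nat_lit 2, nat_lit 0], [nat_lit 1, nat_lit 3, nat_lit 1, nat_lit 3], [nat_lit 0, nat_lit 2, nat_lit 3, nat_lit 0, nat_lit 2, nat_lit 3, nat_lit 0, nat_lit 2, nat_lit 3, nat_lit 0, nat_lit 2, nat_lit 3, nat_lit 0, nat_lit 2, nat_lit 3, nat_lit 0, nat_lit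 2, nat_lit 3], [nat_lit 3, nat_lit 0, nat_lit 1, nat_lit 0, nat_lit 1, nat_lit 0, nat_lit 2, nat_lit 0, nat_lit 3, nat_lit 2, nat_lit 0, nat_lit 2, nat_lit 0, nat_lit 1, nat_lit 0, nat_lit 1, nat_lit 0], [nat_lit 3, nat_lit 0, nat_lit 1, nat_lit 3, nat_lit 0, nat_lit 3, nat_lit 0, nat_lit 3, nat_lit 2, nat_lit 0, nat_lit 3, nat_lit 0, nat_lit 3, nat_lit 2, nat_lit 0], [nat_lit 3, nat_lit 0, nat_lit 1, nat_lit 3, nat_lit 0, nat_lit 2, nat_lit 0, nat_lit 3, nat_lit 0, nat_lit 1, nat_lit 0, nat_lit 3, nat_lit 0, nat_lit 3, nat_lit 0, nat_lit 2, nat_lit 0, nat_lit 3, nat_lit 1, nat_lit 0, nat_lit 1, nat_lit 0, nat_lit 2], [nat_lit 3, nat_lit 0, nat_lit 1, nat_lit 3, nat_lit 0, nat_lit 2, nat_lit 3, nat_lit 0, nat_lit 3, nat_lit 0, nat_lit 3, nat_lit 0, nat_lit 3, nat_lit 1, nat_lit 0, nat_lit 3, nat_lit 0, nat_lit 3, nat_lit 1, nat_lit 0, nat_lit 3, nat_lit 0, nat_lit 2, nat_lit 0, nat_lit 2], [nat_lit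 1, nat_lit 4, nat_lit 1, nat_lit 4], [nat_lit 3, nat_lit 4, nat_lit 3, nat_lit 4, nat_lit 3, nat_lit 4], [nat_lit 4, nat_lit 0, nat_lit 1, nat_lit 0, nat_lit 4, nat_lit 1, nat_lit 0, nat_lit 1, nat_lit 0, nat_lit 1, nat_lit 3, nat_lit 0, nat_lit 2, nat_lit 0, nat_lit 3, nat_lit 0, nat_lit 2, nat_lit 0], [nat_lit 4, nat_lit 0, nat_lit 4, nat_lit 0, nat_lit 1, nat_lit 0, nat_lit 4, nat_lit 3, nat_lit 0, nat_lit 4, nat_lit 0, nat_lit 2, nat_lit 0, nat_lit 2, nat_lit 3, nat_lit 0, nat_lit 1, nat_lit 0, nat_lit 3], [nat_lit 4, nat_lit 0, nat_lit 3, nat_lit 4, nat_lit 3, nat_lit 0, nat_lit 3, nat_lit 4, nat_lit 3, nat_lit 0, nat_lit 4, nat_lit 0, nat_lit 1, nat_lit 0, nat_lit 2, nat_lit 3, nat_lit 0, nat_lit 3, nat_lit 0, nat_lit 2, nat_lit 0, nat_lit 3, nat_lit 1], [nat_lit 4, nat_lit 0, nat_lit 4, nat_lit 0, nat_lit 3, nat_lit 4, nat_lit 3, nat_lit 0, nat_lit 4, nat_lit 3, nat_lit 0, nat_lit 4, nat_lit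 0, nat_lit 1, nat_lit 0, nat_lit 3, nat_lit 0, nat_lit 2, nat_lit 3, nat_lit 0, nat_lit 3, nat_lit 0, nat_lit 2, nat_lit 0, nat_lit 3], [nat_lit 4, nat_lit 0, nat_lit 3, nat_lit 0, nat_lit 1, nat_lit 3, nat_lit 0, nat_lit 4, nat_lit 0, nat_lit 4, nat_lit 1, nat_lit 0, nat_lit 4, nat_lit 0, nat_lit 4, nat_lit 1, nat_lit 0, nat_lit 1, nat_lit 3, nat_lit 0, nat_lit 3, nat_lit 0, nat_lit 1, nat_lit 0, nat_lit 2, nat_lit 3, nat_lit 0, nat_lit 3], [nat_lit 4, nat_lit 0, nat_lit 4, nat_lit 0, nat_lit 3, nat_lit 0, nat_lit 3, nat_lit 0, nat_lit 1, nat_lit 4, nat_lit 0, nat_lit 4, nat_lit 3, nat_lit 1, nat_lit 0, nat_lit 3, nat_lit 0, nat_lit 4, nat_lit 0, nat_lit 1, nat_lit 0, nat_lit 3, nat_lit 0, nat_lit 2, nat_lit 3, nat_lit 0, nat_lit 3, nat_lit 1, nat_lit 0, nat_lit 1, nat_lit 0], [nat_lit 4, nat_lit 0, nat_lit 4, nat_lit 0, nat_lit 3, nat_lit 0, nat_lit 4, nat_lit 0, nat_lit 2, nat_lit 4, nat_lit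 0, nat_lit 3, nat_lit 0, nat_lit 4, nat_lit 0, nat_lit 3, nat_lit 0, nat_lit 4, nat_lit 2, nat_lit 0, nat_lit 1, nat_lit 3, nat_lit 0, nat_lit 2, nat_lit 0, nat_lit 3, nat_lit 2, nat_lit 0, nat_lit 3, nat_lit 0], [nat_lit 4, nat_lit 0, nat_lit 3, nat_lit 0, nat_lit 1, nat_lit 4, nat_lit 0, nat_lit 4, nat_lit 0, nat_lit 3, nat_lit 2, nat_lit 0, nat_lit 4, nat_lit 0, nat_lit 4, nat_lit 2, nat_lit 0, nat_lit 3, nat_lit 0, nat_lit 4, nat_lit 1, nat_lit 0, nat_lit 2, nat_lit 0, nat_lit 2, nat_lit 3, nat_lit 0, nat_lit 2, nat_lit 3, nat_lit 0, nat_lit 1, nat_lit 0]]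
def inv (i : ℕ) : ℕ := Nat.land (Nat.shiftRight (nat_lit 18000) (Nat.mul (nat_lit 3) i)) (nat_lit 7)
theorem ub3 {Γ : Type} [Group Γ] {g : ℕ → Γ} (h1 : InvOK g inv 5) (h2 : ∀ w ∈ rels, ev g w = 1) : CardLE (gen g 3) 54 :=
  tw h1 h2 L1.closes (by decide +kernel) (cardLE_gen_zero g)
theorem ub4 {Γ : Type} [Group Γ] {g : ℕ → Γ} (h1 : InvOK g inv 5) (h2 : ∀ w ∈ rels, ev g w = 1) : CardLE (gen g 4) 11232 :=
  tw h1 h2 L2.closes (by decide +kernel) (ub3 h1 h2)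
theorem ub5 {Γ : Type} [Group Γ] {g : ℕ → Γ} (h1 : InvOK g inv 5) (h2 : ∀ w ∈ rels, ev g w = 1) : CardLE (gen g 5) 4245696 :=
  tw h1 h2 L3.closes (by decide +kernel) (ub4 h1 h2)

end Cfsg.Agent.Ct.G23
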